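import Groth.Agent.Et18.ModP.Glue
import Groth.Agent.Et18.Mod.Strata
import Groth.Agent.Et18.Mod.ExtZero
import Groth.Agent.Et18.JCont
import Groth.Agent.ProEtWC.PCont
import Groth.Agent.Et18.Embedding.Point

/-!
# Stratified classical sheaves are classical
-/

universe u

open CategoryTheory CategoryTheory.Limits AlgebraicGeometry Opposite

set_option backward.isDefEq.respectTransparency.types false
set_option backward.isDefEq.respectTransparency false
set_option synthInstance.maxHeartbeats 400000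
set_option maxHeartbeats 1000000

namespace Groth.Agent.Et18.ModP

open ModEps

/-- Composition with an open immersion is continuous on small pro-étale sites. -/
theorem jpCont {U X : Scheme.{u}} (j : U ⟶ X) [IsOpenImmersion j] : ProEtS.JPCont j := by
  refine Functor.isContinuous_of_coverPreserving (F := ProEtS.compP j) ⟨?_⟩ ⟨fun {A S} hS => ?_⟩
  · intro ℱ Z T x hx Y₁ Y₂ W f₁ f₂ g₁ g₂ hg₁ hg₂ e
    haveI : WeaklyEtale (f₁.left ≫ Y₁.hom) :=
      MorphismProperty.of_postcomp (W := @WeaklyEtale) (W' := @WeaklyEtale) (f₁.left ≫ Y₁.hom) j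
        (inferInstanceAs (WeaklyEtale j)) (by
          show WeaklyEtale ((f₁.left ≫ Y₁.hom) ≫ j)
          rw [Category.assoc, show f₁.left ≫ Y₁.hom ≫ j = W.hom from CategoryTheory.Over.w f₁.hom]
          exact W.prop)
    let V' : U.ProEt := Scheme.ProEt.mk (f₁.left ≫ Y₁.hom)
    let i : W ⟶ (ProEtS.compP j).obj V' := MorphismProperty.Over.homMk (𝟙 _) (by
      show 𝟙 _ ≫ (f₁.left ≫ Y₁.hom) ≫ j = W.hom
      rw [Category.id_comp, Category.assoc]
      exact CategoryTheory.Over.w f₁.hom) trivial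
    let h₁ : V' ⟶ Y₁ := MorphismProperty.Over.homMk f₁.left rfl trivial
    have e' : f₁.left ≫ g₁.left = f₂.left ≫ g₂.left := congrArg (fun k => k.left) e
    let h₂ : V' ⟶ Y₂ := MorphismProperty.Over.homMk f₂.left (by
      show f₂.left ≫ Y₂.hom = f₁.left ≫ Y₁.hom
      rw [← show g₁.left ≫ Z.hom = Y₁.hom from CategoryTheory.Over.w g₁.hom,
        ← show g₂.left ≫ Z.hom = Y₂.hom from CategoryTheory.Over.w g₂.hom]
      exact (Category.assoc _ _ _).symm.trans
        ((congrArg (fun t => t ≫ Z.hom) e'.symm).trans (Category.assoc _ _ _))) trivial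
    have hh : h₁ ≫ g₁ = h₂ ≫ g₂ :=
      (Scheme.ProEt.forget U ⋙ CategoryTheory.Over.forget U).map_injective e'
    have hc := hx h₁ h₂ hg₁ hg₂ hh
    have e₁ : i ≫ (ProEtS.compP j).map h₁ = f₁ :=
      (Scheme.ProEt.forget X ⋙ CategoryTheory.Over.forget X).map_injective (Category.id_comp _)
    have e₂ : i ≫ (ProEtS.compP j).map h₂ = f₂ :=
      (Scheme.ProEt.forget X ⋙ CategoryTheory.Over.forget X).map_injective (Category.id_comp _)
    rw [← e₁, ← e₂, op_comp, op_comp, Functor.map_comp, Functor.map_comp]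
    exact congrArg (ℱ.obj.map i.op) hc
  · rw [ProEtWC.mem_topology_iff_pushforward] at hS ⊢
    rw [← Sieve.functorPushforward_comp]
    exact hS

variable {Λ : Type (u + 1)} [CommRing Λ]

/-- Sheaves coming from the étale site. -/
def Cl {X : Scheme.{u}} (F : EtModW.ModP Λ X) : Prop :=
  haveI := EtCmp.epsCont X
  (EtModW.epsPullMod Λ X).essImage F

section Closure

variable {X Y : Scheme.{u}}

lemma Cl.of_iso {F G : EtModW.ModP Λ X} (e : F ≅ G) (h : Cl F) : Cl G := by
  haveI := EtCmp.epsCont X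
  exact Functor.essImage.ofIso e h

lemma Cl.extension {S : ShortComplex (EtModW.ModP Λ X)} (hS : S.ShortExact) (h₁ : Cl S.X₁) (h₃ : Cl S.X₃) :
    Cl S.X₂ := by
  haveI := EtCmp.epsCont X
  obtain ⟨A₁, ⟨e₁⟩⟩ := h₁
  obtain ⟨A₃, ⟨e₃⟩⟩ := h₃
  obtain ⟨T, -, -, -, ⟨e₂⟩⟩ := exists_iso_of_extension hS e₁ e₃
  exact ⟨T.X₂, ⟨e₂⟩⟩

lemma Cl.pull (g : Y ⟶ X) [ProEtS.PCont g] {F : EtModW.ModP Λ X} (h : Cl F) :
    Cl ((pullPMod (Λ := Λ) g).obj F) := by
  haveI := EtCmp.epsCont X
  haveI := EtCmp.epsCont Y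
  obtain ⟨A, ⟨e⟩⟩ := h
  exact ⟨_, ⟨(pullEpsIso g).app A ≪≫ (pullPMod g).mapIso e⟩⟩

lemma Cl.push (i : Y ⟶ X) [IsClosedImmersion i] [ProEtS.PCont i] {F : EtModW.ModP Λ Y} (h : Cl F) :
    Cl ((pushPMod (Λ := Λ) i).obj F) := by
  haveI := EtCmp.epsCont X
  haveI := EtCmp.epsCont Y
  obtain ⟨A, ⟨e⟩⟩ := h
  haveI := isIso_betaMod (Λ := Λ) i A
  exact ⟨_, ⟨asIso (betaMod Λ i A) ≪≫ (pushPMod i).mapIso e⟩⟩

attribute [local instance 10000] Mod.hasLimitsOfSize_moduleCat Mod.hasColimitsOfSize_moduleCat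

lemma Cl.ext (j : Y ⟶ X) [IsOpenImmersion j] [ProEtS.JPCont j] {F : EtModW.ModP Λ Y} (h : Cl F) :
    Cl ((extPMod (Λ := Λ) j).obj F) := by
  haveI := EtCmp.epsCont X
  haveI := EtCmp.epsCont Y
  haveI hje : Etale j := inferInstance
  haveI : (MorphismProperty.Over.map (P := EtCoh.etaleMP.{u}) ⊤ (f := j) hje).IsContinuous Y.smallEtaleTopology
      X.smallEtaleTopology := Et18.jCont j
  haveI : ((MorphismProperty.Over.map (P := EtCoh.etaleMP.{u}) ⊤ (f := j) hje).sheafPushforwardContinuous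
      (ModuleCat.{u + 1} Λ) Y.smallEtaleTopology X.smallEtaleTopology).IsRightAdjoint := inferInstance
  obtain ⟨A, ⟨e⟩⟩ := h
  exact ⟨_, ⟨(extEpsIso Λ j).app A ≪≫ (extPMod j).mapIso e⟩⟩

/-- Inverse image along a composite. -/
noncomputable def pullPComp {Z : Scheme.{u}} (f : Z ⟶ Y) (g : Y ⟶ X) [ProEtS.PCont f] [ProEtS.PCont g]
    [ProEtS.PCont (f ≫ g)] :
    pullPMod (Λ := Λ) (f ≫ g) ≅ pullPMod g ⋙ pullPMod f :=
  ((pullPModAdj (Λ := Λ) (f ≫ g)).ofNatIsoRight
    (Functor.sheafPushforwardContinuousComp' (eFG := (MorphismProperty.Over.pullbackComp f g).symm)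
      (A := ModuleCat.{u + 1} Λ) (Scheme.ProEt.topology X) (Scheme.ProEt.topology Y)
      (Scheme.ProEt.topology Z)).symm).leftAdjointUniq ((pullPModAdj g).comp (pullPModAdj f))

end Closure

/-- A sheaf which is classical on every piece of the partition by finitely many quasi-compact opens is
classical. -/
theorem cl_of_atoms : ∀ (n : ℕ) (X : Scheme.{u}) [CompactSpace X] [QuasiSeparatedSpace X]
    (F : EtModW.ModP Λ X) (O : Fin n → X.Opens), (∀ k, IsCompact (O k : Set X)) →
    (∀ (T : Scheme.{u}) (g : T ⟶ X) [ProEtS.PCont g], IsReduced T → IsImmersion g →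
      (∀ k, Set.range g ⊆ (O k : Set X) ∨ Disjoint (Set.range g) (O k : Set X)) →
      Cl ((pullPMod (Λ := Λ) g).obj F)) → Cl F := by
  intro n
  induction n with
  | zero =>
    intro X _ _ F O _ hF
    let I := Scheme.IdealSheafData.vanishingIdeal (⊤ : TopologicalSpace.Closeds X)
    let i := I.subschemeι
    haveI : AlgebraicGeometry.IsReduced I.subscheme := Props12.isReduced_subscheme_vanishingIdeal _
    let j := (⊥ : X.Opens).ι
    haveI := ProEtWC.pCont i
    haveI := ProEtWC.pCont j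
    haveI := jpCont j
    haveI : IsEmpty ↥(⊥ : X.Opens).toScheme := ⟨fun x => x.2⟩
    haveI : QuasiCompact j := by
      haveI : CompactSpace ↥(⊥ : X.Opens).toScheme := Finite.compactSpace
      exact quasiCompact_of_compactSpace j
    have hr : Set.range i.base = Set.univ := by
      rw [Scheme.IdealSheafData.range_subschemeι]
      simp [I]
    obtain ⟨h, hS⟩ := shortExact_ext_push (Λ := Λ) i j
      (by rw [hr, Set.compl_univ]; exact Set.range_eq_empty _) F
    refine Cl.extension hS (Cl.ext j ?_) (Cl.push i (hF _ i inferInstance inferInstance fun k => k.elim0))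
    haveI := EtCmp.epsCont (⊥ : X.Opens).toScheme
    have hz : ∀ G : EtModW.ModP Λ (⊥ : X.Opens).toScheme, IsZero G := fun G =>
      (IsZero.iff_id_eq_zero G).mpr (hom_ext_awc fun V _ x => by
        haveI : IsEmpty ↥V.left := ⟨fun v => isEmptyElim (show ↥(⊥ : X.Opens).toScheme from V.hom v)⟩
        exact ProEtWC.subsingleton_of_isEmpty
          ((sheafCompose _ (CategoryTheory.forget (ModuleCat.{u + 1} Λ))).obj G) V _ _)
    exact ⟨pushMod.obj ((pullPMod (Λ := Λ) j).obj F), ⟨(hz _).iso (hz _)⟩⟩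
  | succ n ih =>
    intro X _ _ F O hO hF
    let I := Scheme.IdealSheafData.vanishingIdeal ⟨(O 0 : Set X)ᶜ, (O 0).2.isClosed_compl⟩
    let i := I.subschemeι
    let j := (O 0).ι
    haveI := ProEtWC.pCont i
    haveI := ProEtWC.pCont j
    haveI := jpCont j
    haveI : CompactSpace ↥(O 0).toScheme := isCompact_iff_compactSpace.mp (hO 0)
    haveI : QuasiCompact j := quasiCompact_of_compactSpace j
    haveI : CompactSpace ↥I.subscheme := QuasiCompact.compactSpace_of_compactSpace i
    haveI : QuasiSeparatedSpace ↥I.subscheme := quasiSeparatedSpace_of_quasiSeparated i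
    haveI : QuasiSeparatedSpace ↥(O 0).toScheme := quasiSeparatedSpace_of_quasiSeparated j
    have hr : Set.range i.base = (O 0 : Set X)ᶜ := Scheme.IdealSheafData.range_subschemeι I |>.trans (by simp [I])
    have hrj : Set.range j.base = (O 0 : Set X) := (O 0).range_ι
    obtain ⟨h, hS⟩ := shortExact_ext_push (Λ := Λ) i j (by rw [hrj, hr, compl_compl]) F
    have step : ∀ (Y : Scheme.{u}) (f : Y ⟶ X) [ProEtS.PCont f] [CompactSpace Y] [QuasiSeparatedSpace Y]
        [IsImmersion f] [QuasiCompact f],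
        (Set.range f ⊆ (O 0 : Set X) ∨ Disjoint (Set.range f) (O 0 : Set X)) →
        Cl ((pullPMod (Λ := Λ) f).obj F) := by
      intro Y f _ _ _ _ _ hf
      refine ih Y _ (fun k => f ⁻¹ᵁ O k.succ) (fun k => QuasiCompact.isCompact_preimage _ (O k.succ).2 (hO _))
        fun T g _ hT hg hk => ?_
      haveI := hg
      haveI := ProEtWC.pCont (g ≫ f)
      have hsub : Set.range (g ≫ f) ⊆ Set.range f := by
        rw [Scheme.Hom.comp_base, TopCat.coe_comp]; exact Set.range_comp_subset_range _ _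
      refine Cl.of_iso ((pullPComp (Λ := Λ) g f).app F) (hF T (g ≫ f) hT inferInstance
        fun k => Fin.cases ?_ (fun k => ?_) k)
      · exact hf.imp hsub.trans fun h => h.mono_left hsub
      · rw [Scheme.Hom.comp_base, TopCat.coe_comp, Set.range_comp]
        refine (hk k).imp (fun h => Set.image_subset_iff.mpr h) fun h => ?_
        refine Set.disjoint_left.mpr ?_
        rintro _ ⟨y, hy, rfl⟩ hy'
        exact Set.disjoint_left.mp h hy hy'
    refine Cl.extension hS (Cl.ext j (Cl.of_iso ((pullRestrPIso Λ j).app F) (step _ j ?_)))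
      (Cl.push i (step _ i ?_))
    · exact Or.inl hrj.le
    · right
      rw [hr]
      exact disjoint_compl_left

end Groth.Agent.Et18.ModP
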