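import Groth.Agent.Et18.ModP.Push
import Groth.Agent.ProEtWC.ExtZeroLimits
import Groth.Agent.ProEtWC.PullSections

/-!
# Extension by zero of pro-étale sheaves of modules
-/

universe u

open CategoryTheory CategoryTheory.Limits AlgebraicGeometry Opposite ARSys MorphismProperty

set_option autoImplicit false
set_option linter.all false
set_option backward.isDefEq.respectTransparency.types false
set_option backward.isDefEq.respectTransparency false
set_option synthInstance.maxHeartbeats 400000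
set_option maxHeartbeats 1000000

namespace Groth.Agent.Et18.ModP

open ModEps ProEtWC

variable {Λ : Type (u + 1)} [CommRing Λ]

/-- Extension by zero of pro-étale sheaves of modules. -/
noncomputable abbrev extPMod {U X : Scheme.{u}} (j : U ⟶ X) [WeaklyEtale j] [ProEtS.JPCont j] :
    EtModW.ModP Λ U ⥤ EtModW.ModP Λ X :=
  (ProEtS.compP j).sheafPullback (ModuleCat.{u + 1} Λ) (Scheme.ProEt.topology U) (Scheme.ProEt.topology X)

/-- Restriction of pro-étale sheaves of modules. -/
noncomputable abbrev restrPMod {U X : Scheme.{u}} (j : U ⟶ X) [WeaklyEtale j] [ProEtS.JPCont j] :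
    EtModW.ModP Λ X ⥤ EtModW.ModP Λ U :=
  (ProEtS.compP j).sheafPushforwardContinuous (ModuleCat.{u + 1} Λ) (Scheme.ProEt.topology U) (Scheme.ProEt.topology X)

/-- The adjunction. -/
noncomputable abbrev extPModAdj {U X : Scheme.{u}} (j : U ⟶ X) [WeaklyEtale j] [ProEtS.JPCont j] :
    extPMod (Λ := Λ) j ⊣ restrPMod j :=
  (ProEtS.compP j).sheafAdjunctionContinuous (ModuleCat.{u + 1} Λ) (Scheme.ProEt.topology U) (Scheme.ProEt.topology X)

/-- Sections. -/
noncomputable abbrev secT {X : Scheme.{u}} (F : EtModW.ModP Λ X) (V : X.ProEt) : Type (u + 1) := F.obj.obj (op V)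

/-- A left Kan extension vanishes where there are no morphisms to the image. -/
theorem isZero_lanM {C : Type (u + 1)} [Category.{u} C] {D : Type (u + 1)} [Category.{u} D] (G : C ⥤ D)
    (F : Cᵒᵖ ⥤ (ModuleCat.{u + 1} Λ)) (W : D) (h : ∀ V, (W ⟶ G.obj V) → False) :
    IsZero ((G.op.lan.obj F).obj (op W)) := by
  have hc := (Functor.isPointwiseLeftKanExtensionOfIsLeftKanExtension (G.op.lan.obj F) (G.op.lanUnit.app F))
    (op W)
  haveI : IsEmpty (CostructuredArrow G.op (op W)) := ⟨fun j => h _ j.hom.unop⟩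
  exact (IsZero.iff_id_eq_zero _).2 (hc.hom_ext fun j => isEmptyElim j)

variable {X : Scheme.{u}}

section Sub

variable {U : Scheme.{u}} (j : U ⟶ X) [WeaklyEtale j] [ProEtS.JPCont j]

theorem extPMod_subsingleton (Zc : Set X) (hZ : IsClosed Zc) (hUZ : Disjoint (Set.range j.base) Zc)
    (V : X.ProEt) [IsAffine V.left]
    (hV : ∀ v : V.left, ∃ z : V.left, V.hom z ∈ Zc ∧ v ⤳ z) (F : EtModW.ModP Λ U) :
    Subsingleton (secT ((extPMod (Λ := Λ) j).obj F) V) := by
  let J := Scheme.ProEt.topology X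
  let P := (ProEtS.compP j).op.lan.obj F.obj
  let e := (Functor.sheafPullbackConstruction.sheafPullbackIso (ProEtS.compP j) (ModuleCat.{u + 1} Λ)
    (Scheme.ProEt.topology U) J).app F
  let S : EtModW.ModP Λ X := (presheafToSheaf J (ModuleCat.{u + 1} Λ)).obj P
  suffices h : ∀ s : S.obj.obj (op V), s = 0 by
    let e' := ((sheafToPresheaf J _).mapIso e).app (op V)
    exact @Equiv.subsingleton _ _ e'.toLinearEquiv.toEquiv ⟨fun a b => (h a).trans (h b).symm⟩
  intro s
  have hR := Presheaf.imageSieve_mem J (toSheafify J P) s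
  have hfin := Et18.saturate_hasFiniteAffine hR V (𝟙 V) ‹IsAffine V.left›
  rw [Sieve.pullback_id] at hfin
  obtain ⟨n, Yc, f, hY, hf, hcov⟩ := hfin
  haveI : ∀ k, IsAffine (Yc k).left := hY
  choose T g hTa hTz hTr using fun k => exists_localisation_along (Yc k) Zc hZ
  haveI : ∀ k, IsAffine (T k).left := hTa
  have hT : Sieve.ofArrows T (fun k => g k ≫ f k) ∈ J V := by
    refine Et18.mem_topology_of_finite _ _ fun v => ?_
    obtain ⟨z, hz, hvz⟩ := hV v
    obtain ⟨V', h, ⟨V'', c, p, ⟨k⟩, rfl⟩, w, rfl⟩ := ProEtWC.exists_mem_of_covering hcov z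
    haveI := weaklyEtale_left (f k)
    obtain ⟨y', hy', hy'v⟩ := Flat.generalizingMap (f k).left (a := c.left w) (b := v) hvz
    have hz' : (Yc k).hom (c.left w) ∈ Zc := by
      have hw : (f k).left ≫ V.hom = (Yc k).hom := CategoryTheory.Over.w (f k).hom
      rw [← hw, Scheme.Hom.comp_apply]
      exact hz
    obtain ⟨t, ht⟩ := hTr k y' (c.left w) hy' hz'
    refine ⟨k, t, ?_⟩
    show (f k).left ((g k).left t) = v
    rw [ht]
    exact hy'v
  refine ((isSheaf_iff_isSheaf_of_type J _).1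
    ((sheafCompose J (CategoryTheory.forget (ModuleCat.{u + 1} Λ))).obj S).property).isSeparated _ hT |>.ext ?_
  rintro W q ⟨_, c, _, ⟨k⟩, rfl⟩
  show S.obj.map (c ≫ g k ≫ f k).op s = S.obj.map (c ≫ g k ≫ f k).op 0
  rw [op_comp, Functor.map_comp_apply, Functor.map_comp_apply]
  congr 1
  rw [map_zero, op_comp, Functor.map_comp_apply]
  by_cases he : IsEmpty (T k).left
  · haveI := he
    exact subsingleton_of_isEmpty ((sheafCompose J (CategoryTheory.forget (ModuleCat.{u + 1} Λ))).obj S) (T k) _ _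
  · have hP : IsZero (P.obj (op (T k))) := by
      refine isZero_lanM _ _ _ fun V' m => ?_
      obtain ⟨t⟩ := not_isEmpty_iff.1 he
      obtain ⟨t', -, ht'⟩ := hTz k t
      refine Set.disjoint_right.1 hUZ ht' ⟨V'.hom (m.left t'), ?_⟩
      have hw : m.left ≫ V'.hom ≫ j = (T k).hom := CategoryTheory.Over.w m.hom
      rw [← hw]
      rfl
    obtain ⟨t, ht⟩ := hf k
    haveI := ModuleCat.subsingleton_of_isZero hP
    rw [← ht, ← NatTrans.naturality_apply, Subsingleton.elim (P.map (g k).op t) 0, map_zero]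

end Sub

variable {U : Scheme.{u}} (j : U ⟶ X) [IsOpenImmersion j]

/-- `j⁻¹ j_! = id`. -/
noncomputable def restrExtPModIso [ProEtS.JPCont j] :
    extPMod (Λ := Λ) j ⋙ restrPMod (Λ := Λ) j ≅ 𝟭 (EtModW.ModP Λ U) :=
  let G := ProEtS.compP j
  let J := Scheme.ProEt.topology U
  let K := Scheme.ProEt.topology X
  let A := (ModuleCat.{u + 1} Λ)
  Functor.isoWhiskerRight (Functor.sheafPullbackConstruction.sheafPullbackIso G A J K) _ ≪≫
    Functor.associator _ _ _ ≪≫
    Functor.isoWhiskerLeft (sheafToPresheaf J A) (Functor.associator _ _ _ ≪≫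
      Functor.isoWhiskerLeft G.op.lan (G.pushforwardContinuousSheafificationCompatibility A J K).symm ≪≫
      (Functor.associator _ _ _).symm ≪≫
      Functor.isoWhiskerRight (asIso G.op.lanUnit).symm _ ≪≫
      Functor.leftUnitor _) ≪≫
    asIso (sheafificationAdjunction J A).counit

variable [QuasiCompact j] [ProEtS.JPCont j]

theorem exists_secP_iso (V : X.ProEt) [IsAffine V.left]
    (hwc : EtPBC.IsWContractible Γ(V.left, ⊤)) :
    ∃ (A : U.ProEt), Nonempty
      (extPMod (Λ := Λ) j ⋙ sheafToPresheaf _ _ ⋙ (evaluation _ _).obj (op V) ≅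
        sheafToPresheaf _ _ ⋙ (evaluation _ _).obj (op A)) := by
  obtain ⟨W, W', hW, hW', hcompl, hWU, hWZ⟩ := exists_clopen_split j V hwc
  have hrange : Set.range (W.ι ≫ V.hom) ⊆ Set.range j.base := by
    rintro _ ⟨y, rfl⟩
    exact hWU y.1 y.2
  let a : W.toScheme ⟶ U := IsOpenImmersion.lift j (W.ι ≫ V.hom) hrange
  have ha : a ≫ j = W.ι ≫ V.hom := IsOpenImmersion.lift_fac _ _ _
  haveI : WeaklyEtale a := MorphismProperty.of_postcomp (W := @WeaklyEtale) (W' := @WeaklyEtale) a j
    (inferInstanceAs (WeaklyEtale j)) (by show WeaklyEtale (a ≫ j); rw [ha]; infer_instance)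
  let A : U.ProEt := Scheme.ProEt.mk a
  let g : (ProEtS.compP j).obj A ⟶ V := MorphismProperty.Over.homMk W.ι ha.symm trivial
  let τ : extPMod (Λ := Λ) j ⋙ sheafToPresheaf _ _ ⋙ (evaluation _ _).obj (op V) ⟶
      (extPMod (Λ := Λ) j ⋙ restrPMod (Λ := Λ) j) ⋙ sheafToPresheaf _ _ ⋙ (evaluation _ _).obj (op A) :=
    { app := fun F => ((extPMod (Λ := Λ) j).obj F).obj.map g.op
      naturality := fun F G φ => (((extPMod (Λ := Λ) j).map φ).hom.naturality g.op).symm }
  haveI : ∀ F, IsIso (τ.app F) := fun F => by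
    rw [ConcreteCategory.isIso_iff_bijective]
    let S := (extPMod (Λ := Λ) j).obj F
    let S' := (sheafCompose (Scheme.ProEt.topology X) (CategoryTheory.forget (ModuleCat.{u + 1} Λ))).obj S
    haveI : IsAffine W'.toScheme := by
      have : IsClosedImmersion W'.ι := IsClosedImmersion.of_isPreimmersion _ (by
        rw [W'.range_ι]; exact hW'.1)
      exact isAffine_of_isAffineHom W'.ι
    haveI : IsAffine (openObj V W').left := inferInstanceAs (IsAffine W'.toScheme)
    haveI : Subsingleton (secT S (openObj V W')) := by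
      refine extPMod_subsingleton j _ j.opensRange.isOpen.isClosed_compl disjoint_compl_right (openObj V W') ?_ F
      intro v
      obtain ⟨z, hz, hzU, hvz⟩ := hWZ v.1 v.2
      exact ⟨⟨z, hz⟩, hzU, (subtype_specializes_iff _ _).2 hvz⟩
    let P : Fin 2 → X.ProEt := ![(ProEtS.compP j).obj A, openObj V W']
    let p : ∀ k, P k ⟶ V := Fin.cons g (Fin.cons (openIncl V W') finZeroElim)
    haveI : ∀ k, IsOpenImmersion (p k).left := Fin.forall_fin_two.2
      ⟨inferInstanceAs (IsOpenImmersion W.ι), inferInstanceAs (IsOpenImmersion W'.ι)⟩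
    have hc : ∀ x : V.left, ∃ k, x ∈ Set.range (p k).left := fun x => by
      by_cases hx : x ∈ W
      · exact ⟨0, ⟨x, hx⟩, rfl⟩
      · exact ⟨1, ⟨x, hcompl.symm.le hx⟩, rfl⟩
    have h01 : Disjoint (Set.range (p 0).left) (Set.range (p 1).left) := by
      refine Set.disjoint_left.2 ?_
      rintro _ ⟨y, rfl⟩ ⟨z, hz⟩
      exact (hcompl.le z.2 : z.1 ∉ (W : Set V.left)) ((show z.1 = y.1 from hz) ▸ y.2)
    have hd : Pairwise fun k l => Disjoint (Set.range (p k).left) (Set.range (p l).left) := by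
      intro k l hkl
      fin_cases k <;> fin_cases l
      · exact absurd rfl hkl
      · exact h01
      · exact h01.symm
      · exact absurd rfl hkl
    refine ⟨fun x y hxy => (isSheafFor_disjoint P p hc S').isSeparatedFor.ext ?_, fun t => ?_⟩
    · rintro _ _ ⟨k⟩
      fin_cases k
      · exact hxy
      · exact @Subsingleton.elim (secT S (openObj V W')) _ _ _
    · obtain ⟨x, hx⟩ := exists_glue P p hc hd S' (Fin.cons t (Fin.cons (0 : secT S (openObj V W')) finZeroElim))
      exact ⟨x, hx 0⟩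
  haveI : IsIso τ := NatIso.isIso_of_isIso_app τ
  exact ⟨A, ⟨asIso τ ≪≫ Functor.isoWhiskerRight (restrExtPModIso j) _ ≪≫ Functor.leftUnitor _⟩⟩

theorem extPMod_preservesLimits (K : Type) [SmallCategory K] :
    PreservesLimitsOfShape K (extPMod (Λ := Λ) j) := by
  refine ⟨fun {D} => ⟨fun {c} hc => ⟨?_⟩⟩⟩
  haveI : PreservesLimitsOfShape K (sheafToPresheaf (Scheme.ProEt.topology X) (ModuleCat.{u + 1} Λ)) := inferInstance
  let t := limit.lift (D ⋙ extPMod (Λ := Λ) j) ((extPMod (Λ := Λ) j).mapCone c)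
  suffices IsIso t from IsLimit.ofPointIso (limit.isLimit _) (i := this)
  refine isIso_of_awc _ fun V hV => ?_
  haveI := hV.1
  obtain ⟨A, ⟨e⟩⟩ := exists_secP_iso (Λ := Λ) j V hV.2
  let ev := sheafToPresheaf (Scheme.ProEt.topology X) (ModuleCat.{u + 1} Λ) ⋙ (evaluation _ _).obj (op V)
  haveI : PreservesLimit D (extPMod (Λ := Λ) j ⋙ ev) := preservesLimit_of_natIso D e.symm
  have h1 : IsLimit (ev.mapCone ((extPMod (Λ := Λ) j).mapCone c)) :=
    isLimitOfPreserves (extPMod (Λ := Λ) j ⋙ ev) hc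
  have h2 : IsLimit (ev.mapCone (limit.cone (D ⋙ extPMod (Λ := Λ) j))) :=
    isLimitOfPreserves ev (limit.isLimit _)
  have h3 : ev.map t = (h1.conePointUniqueUpToIso h2).hom := h2.hom_ext fun k => by
    rw [h1.conePointUniqueUpToIso_hom_comp h2]
    show ev.map t ≫ ev.map (limit.π _ k) = ev.map _
    rw [← ev.map_comp, limit.lift_π]
  have h4 : IsIso (ev.map t) := by rw [h3]; infer_instance
  exact (ConcreteCategory.isIso_iff_bijective _).1 h4


section Adjoint

/-- Left adjoints of linear functors keep quotient maps. -/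
theorem isQuot_map_leftAdjoint {C D : Type*} [Category* C] [Category* D] [Abelian C] [Abelian D] [Linear Λ C]
    [Linear Λ D] {L : C ⥤ D} {R : D ⥤ C} (adj : L ⊣ R)
    (hR : ∀ {A B : D} (f : A ⟶ B) (a : Λ), R.map (a • f) = a • R.map f)
    {I : Ideal Λ} {F Q : C} {p : F ⟶ Q} (hp : IsQuot I p) : IsQuot I (L.map p) := by
  have he : ∀ {A : C} {B : D} (g : L.obj A ⟶ B) (a : Λ), adj.homEquiv A B (a • g) = a • adj.homEquiv A B g :=
    fun g a => by rw [Adjunction.homEquiv_unit, Adjunction.homEquiv_unit, hR, Linear.comp_smul]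
  have h0 : ∀ {A : C} {B : D}, adj.homEquiv A B 0 = 0 := fun {A B} => by
    have := he (0 : L.obj A ⟶ B) 0
    rwa [smul_zero, zero_smul] at this
  refine ⟨fun a ha => (adj.homEquiv _ _).injective ?_, fun Y φ hφ => ?_⟩
  · rw [he, h0, ← Category.id_comp (adj.homEquiv _ _ (𝟙 (L.obj Q))), ← Linear.smul_comp, hp.1 a ha, zero_comp]
  · have hk : HomKilledBy I (adj.homEquiv _ _ φ) := fun a ha => by rw [← he, hφ a ha, h0]
    obtain ⟨ψ, hψ, huniq⟩ := hp.2 _ _ hk
    refine ⟨(adj.homEquiv _ _).symm ψ, ?_, fun χ hχ => ?_⟩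
    · show L.map p ≫ _ = φ
      rw [← Adjunction.homEquiv_naturality_left_symm, hψ, Equiv.symm_apply_apply]
    · rw [Equiv.eq_symm_apply]
      refine huniq _ ?_
      show p ≫ adj.homEquiv _ _ χ = adj.homEquiv _ _ φ
      rw [← Adjunction.homEquiv_naturality_left, hχ]

end Adjoint

end Groth.Agent.Et18.ModP
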