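import Groth.Agent.Et18.ModP.ExtZero

/-!
# Extension by zero of adic pro-étale sheaves
-/

universe u

open CategoryTheory CategoryTheory.Limits AlgebraicGeometry Opposite ARSys

set_option backward.isDefEq.respectTransparency.types false
set_option backward.isDefEq.respectTransparency false
set_option backward.defeqAttrib.useBackward true
set_option synthInstance.maxHeartbeats 400000
set_option maxHeartbeats 1000000

namespace Groth.Agent.Et18.ModP

open ModEps

variable {Λ : Type (u + 1)} [CommRing Λ] {U X : Scheme.{u}} (j : U ⟶ X) [hje : Etale j] [WeaklyEtale j]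
  [ProEtS.EpsCont U] [ProEtS.EpsCont X] [ProEtS.JPCont j]
  [(MorphismProperty.Over.map (P := EtCoh.etaleMP.{u}) ⊤ (f := j) hje).IsContinuous U.smallEtaleTopology
    X.smallEtaleTopology]
  [((MorphismProperty.Over.map (P := EtCoh.etaleMP.{u}) ⊤ (f := j) hje).sheafPushforwardContinuous
    (ModuleCat.{u + 1} Λ) U.smallEtaleTopology X.smallEtaleTopology).IsRightAdjoint]

variable (Λ) in
/-- Étale extension by zero. -/
noncomputable abbrev extEtMod : EtModW.Mod Λ U ⥤ EtModW.Mod Λ X :=
  (MorphismProperty.Over.map (P := EtCoh.etaleMP.{u}) ⊤ (f := j) hje).sheafPullback (ModuleCat.{u + 1} Λ)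
    U.smallEtaleTopology X.smallEtaleTopology

variable (Λ) in
/-- `ε⁻¹` commutes with extension by zero. -/
noncomputable def extEpsIso : extEtMod Λ j ⋙ EtModW.epsPullMod Λ X ≅ EtModW.epsPullMod Λ U ⋙ extPMod j :=
  let a₁ := ((MorphismProperty.Over.map (P := EtCoh.etaleMP.{u}) ⊤ (f := j) hje).sheafAdjunctionContinuous
    (ModuleCat.{u + 1} Λ) U.smallEtaleTopology X.smallEtaleTopology).comp (epsAdjMod (X := X) Λ)
  let a₂ := (epsAdjMod (X := U) Λ).comp (extPModAdj (Λ := Λ) j)
  let α : ProEtS.eps U ⋙ ProEtS.compP j ≅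
      MorphismProperty.Over.map (P := EtCoh.etaleMP.{u}) ⊤ (f := j) hje ⋙ ProEtS.eps X :=
    NatIso.ofComponents (fun V => MorphismProperty.Over.isoMk (Iso.refl _) (Category.id_comp _)) fun {V W} f => by
      refine (Scheme.ProEt.forget X ⋙ CategoryTheory.Over.forget X).map_injective ?_
      show f.left ≫ 𝟙 _ = 𝟙 _ ≫ f.left
      rw [Category.comp_id, Category.id_comp]
  let e : (ProEtS.eps X).sheafPushforwardContinuous (ModuleCat.{u + 1} Λ) X.smallEtaleTopology
        (Scheme.ProEt.topology X) ⋙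
      (MorphismProperty.Over.map (P := EtCoh.etaleMP.{u}) ⊤ (f := j) hje).sheafPushforwardContinuous
        (ModuleCat.{u + 1} Λ) U.smallEtaleTopology X.smallEtaleTopology ≅
      restrPMod j ⋙ (ProEtS.eps U).sheafPushforwardContinuous (ModuleCat.{u + 1} Λ) U.smallEtaleTopology
        (Scheme.ProEt.topology U) :=
    NatIso.ofComponents (fun F => (fullyFaithfulSheafToPresheaf _ _).preimageIso
        (Functor.isoWhiskerRight (NatIso.op α) F.obj)) fun {F F'} φ => by
      refine (sheafToPresheaf _ _).map_injective ?_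
      ext V : 2
      simp
  (a₁.ofNatIsoRight e).leftAdjointUniq a₂

/-- **Extension by zero of adic sheaves is adic.** -/
theorem isAdicP_ext [IsOpenImmersion j] [QuasiCompact j] {I : Ideal Λ}
    (hext : ∀ E : EtModW.Mod Λ U, EtModW.IsConstructible Λ E →
      EtModW.IsConstructible Λ ((extEtMod Λ j).obj E))
    (F : EtModW.ModP Λ U) (hF : IsAdicP I F) : IsAdicP I ((extPMod j).obj F) := by
  obtain ⟨Q, p, hQ, hc, hl⟩ := hF
  let P := extPMod (Λ := Λ) j
  let p' : (Functor.const ℕᵒᵖ).obj (P.obj F) ⟶ Q ⋙ P :=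
    { app := fun n => P.map (p.app n)
      naturality := fun n m f => by
        refine (Category.id_comp _).trans ?_
        refine (congrArg P.map ((Category.id_comp _).symm.trans (p.naturality f))).trans ?_
        exact P.map_comp _ _ }
  refine ⟨Q ⋙ P, p', fun n => isQuot_map_leftAdjoint (extPModAdj (Λ := Λ) j) (fun _ _ => rfl) (hQ n),
    fun n => ?_, ?_⟩
  · obtain ⟨E, hE, ⟨e⟩⟩ := hc n
    exact ⟨_, hext E hE, ⟨(extEpsIso Λ j).app E ≪≫ P.mapIso e⟩⟩
  · haveI := hl
    haveI : PreservesLimitsOfShape ℕᵒᵖ P := extPMod_preservesLimits (Λ := Λ) j ℕᵒᵖ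
    have hc' : IsLimit (Cone.mk F p) :=
      (limit.isLimit Q).ofIsoLimit (Cone.ext (asIso (limit.lift Q (Cone.mk F p))) fun n =>
        (limit.lift_π (Cone.mk F p) n).symm).symm
    let h := isLimitOfPreserves P hc'
    have : limit.lift (Q ⋙ P) (Cone.mk (P.obj F) p') = (h.conePointUniqueUpToIso (limit.isLimit _)).hom :=
      limit.hom_ext fun n => by
        rw [limit.lift_π]
        exact (h.conePointUniqueUpToIso_hom_comp (limit.isLimit _) n).symm
    rw [this]
    infer_instance

end Groth.Agent.Et18.ModP
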