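import Groth.Agent.Et18.ModP.Localization
import Groth.Agent.Et18.ModEps.AdicExtension
import Groth.Agent.Et18.ModEps.AdicAbelian

/-!
# Gluing adic sheaves along an open and closed decomposition
-/

universe u

open CategoryTheory CategoryTheory.Limits AlgebraicGeometry Opposite ARSys

set_option backward.isDefEq.respectTransparency.types false
set_option backward.isDefEq.respectTransparency false
set_option synthInstance.maxHeartbeats 400000
set_option maxHeartbeats 1000000

namespace Groth.Agent.Et18.ModP

open ModEps

variable {Λ : Type (u + 1)} [CommRing Λ] {U X : Scheme.{u}} (j : U ⟶ X) [hj : WeaklyEtale j] [ProEtS.JPCont j]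
  [ProEtS.PCont j]

variable (Λ) in
/-- Inverse image along a weakly étale morphism is restriction. -/
noncomputable def pullRestrPIso : pullPMod (Λ := Λ) j ≅ restrPMod j :=
  (pullPModAdj (Λ := Λ) j).leftAdjointUniq
    ((MorphismProperty.Over.mapPullbackAdj @WeaklyEtale ⊤ j hj trivial).sheafPushforwardContinuous
      (Scheme.ProEt.topology U) (Scheme.ProEt.topology X))

end Groth.Agent.Et18.ModP
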