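import Groth.Agent.Et18.ModP.OverSite
import Groth.Agent.Et18.Mod.FTLC
import Groth.Agent.Et18.Mod.StrataApps
import Groth.Agent.Et18.StalkIndep

/-!
# Locally constant pro-étale sheaves of finitely presented modules come from the étale site
-/

universe u

open CategoryTheory CategoryTheory.Limits AlgebraicGeometry Opposite

set_option backward.isDefEq.respectTransparency.types false
set_option backward.isDefEq.respectTransparency false
set_option synthInstance.maxHeartbeats 400000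
set_option maxHeartbeats 1000000

namespace Groth.Agent.Et18.ModP

open ModEps DC

variable {Λ : Type (u + 1)} [CommRing Λ] {X : Scheme.{u}}

/-- `p⁻¹G` is constant with value `M`. -/
def TrivP {V : Scheme.{u}} (p : V ⟶ X) (G : EtModW.ModP Λ X) (M : ModuleCat.{u + 1} Λ) : Prop :=
  haveI := ProEtWC.pCont p
  Nonempty ((pullPMod (Λ := Λ) p).obj G ≅ (cstP (X := V)).obj M)

lemma TrivP.comp {V W : Scheme.{u}} {p : V ⟶ X} {G : EtModW.ModP Λ X} {M : ModuleCat.{u + 1} Λ}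
    (h : TrivP p G M) (g : W ⟶ V) {k : W ⟶ X} (e : g ≫ p = k) : TrivP k G M := by
  haveI := ProEtWC.pCont p
  haveI := ProEtWC.pCont g
  haveI := ProEtWC.pCont k
  haveI := ProEtWC.pCont (g ≫ p)
  haveI := EtCmp.epsCont V
  haveI := EtCmp.epsCont W
  obtain ⟨i⟩ := h
  exact ⟨(pullPCongr Λ e.symm ≪≫ pullPComp (Λ := Λ) g p).app G ≪≫ (pullPMod g).mapIso i ≪≫
    (pullCstPIso Λ g).app M⟩

lemma trivP_pull_iff {V W : Scheme.{u}} (f : W ⟶ X) (h : V ⟶ W) (G : EtModW.ModP Λ X)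
    (M : ModuleCat.{u + 1} Λ) [ProEtS.PCont f] : TrivP h ((pullPMod (Λ := Λ) f).obj G) M ↔ TrivP (h ≫ f) G M := by
  haveI := ProEtWC.pCont h
  haveI := ProEtWC.pCont (h ≫ f)
  exact ⟨fun ⟨i⟩ => ⟨(pullPComp (Λ := Λ) h f).app G ≪≫ i⟩,
    fun ⟨i⟩ => ⟨((pullPComp (Λ := Λ) h f).app G).symm ≪≫ i⟩⟩

lemma trivP_eps_iff [ProEtS.EpsCont X] {V : Scheme.{u}} (p : V ⟶ X) (E : EtModW.Mod Λ X)
    (M : ModuleCat.{u + 1} Λ) : TrivP p ((EtModW.epsPullMod Λ X).obj E) M ↔ Mod.Triv p E M := by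
  haveI := ProEtWC.pCont p
  haveI := EtCmp.epsCont V
  refine ⟨fun ⟨i⟩ => ⟨(EtModW.epsPullMod Λ V).preimageIso ((pullEpsIso p).app E ≪≫ i ≪≫
    ((cstEpsIso (X := V) Λ).app M).symm)⟩, fun ⟨i⟩ => ?_⟩
  exact ⟨((pullEpsIso p).app E).symm ≪≫ (EtModW.epsPullMod Λ V).mapIso i ≪≫ (cstEpsIso (X := V) Λ).app M⟩

lemma TrivP.of_iso {V : Scheme.{u}} {p : V ⟶ X} {G G' : EtModW.ModP Λ X} {M : ModuleCat.{u + 1} Λ}
    (h : TrivP p G M) (e : G ≅ G') : TrivP p G' M := by
  haveI := ProEtWC.pCont p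
  exact ⟨(pullPMod p).mapIso e.symm ≪≫ h.some⟩

/-- A finite family trivialising `G` over the open `U`. -/
def FinTriv (G : EtModW.ModP Λ X) (U : X.Opens) : Prop :=
  ∃ (n : ℕ) (V : Fin n → Scheme.{u}) (_ : ∀ a, IsAffine (V a)) (v : ∀ a, V a ⟶ U.toScheme)
    (_ : ∀ a, WeaklyEtale (v a)) (M : Fin n → ModuleCat.{u + 1} Λ),
    (∀ y : U.toScheme, ∃ a, y ∈ Set.range (v a)) ∧
      ∀ a, Module.FinitePresentation Λ (M a) ∧ TrivP (v a ≫ U.ι) G (M a)

theorem finTriv_of_isFPLocConstP {G : EtModW.ModP Λ X} (hG : EtModW.IsFPLocConstP Λ G)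
    {U : X.Opens} (hU : IsAffineOpen U) : FinTriv G U := by
  obtain ⟨ι, O, hcov, hM⟩ := hG
  haveI : IsAffine U.toScheme := hU
  let P : X.ProEt := Scheme.ProEt.mk U.ι
  let t : P ⟶ ProEtS.topP X := MorphismProperty.Over.homMk U.ι rfl trivial
  have hfin := Et18.saturate_hasFiniteAffine ((Scheme.ProEt.topology X).pullback_stable t hcov) P (𝟙 P)
    (show IsAffine P.left from hU)
  rw [Sieve.pullback_id] at hfin
  obtain ⟨n, Y, f, hY, hf, hc⟩ := hfin
  have hi : ∀ a, ∃ (i : ι) (g : (Y a).left ⟶ (O i).left), g ≫ (O i).hom = (f a).left ≫ U.ι := fun a => by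
    obtain ⟨_, g, _, ⟨i⟩, hg⟩ := hf a
    exact ⟨i, g.left, congrArg (fun k => k.left) hg⟩
  choose i g hg using hi
  choose M hMg hMm hMfp hMe using fun a => hM (i a)
  refine ⟨n, fun a => (Y a).left, hY, fun a => (f a).left, fun a => ProEtWC.weaklyEtale_left (f a),
    fun a => letI := hMg a; letI := hMm a; ModuleCat.of Λ (M a), fun y => ?_, fun a => ?_⟩
  · obtain ⟨W, b, ⟨_, c, _, ⟨a⟩, rfl⟩, w, rfl⟩ := ProEtWC.exists_mem_of_covering hc y
    exact ⟨a, c.left w, rfl⟩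
  · letI := hMg a
    letI := hMm a
    refine ⟨hMfp a, ?_⟩
    exact TrivP.comp (p := sHom (O (i a))) ((nonempty_over_iso_const_iff (O (i a)) Λ G _).mp (hMe a)) (g a) (hg a)

section Classical

variable [ProEtS.EpsCont X]

/-- A sheaf trivialised by a finite affine cover of an affine scheme is classical. -/
theorem cl_of_triv [IsAffine X] (G : EtModW.ModP Λ X) {n : ℕ} (V : Fin n → Scheme.{u})
    [∀ a, IsAffine (V a)] (v : ∀ a, V a ⟶ X) [∀ a, WeaklyEtale (v a)] (M : Fin n → ModuleCat.{u + 1} Λ)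
    (hsurj : ∀ y : X, ∃ a, y ∈ Set.range (v a)) (hG : ∀ a, TrivP (v a) G (M a)) : Cl G := by
  classical
  haveI : ∀ a, ProEtS.PCont (v a) := fun a => ProEtWC.pCont (v a)
  haveI : ∀ a, ProEtS.JPCont (v a) := fun a => jpCont' (v a)
  haveI : ∀ a, ProEtS.EpsCont (V a) := fun a => EtCmp.epsCont (V a)
  have hv' : ∀ a, WeaklyEtale (v a) := fun a => inferInstance
  haveI hadd : ∀ a, (pushPMod (Λ := Λ) (v a)).Additive := fun a => ⟨fun {F G f g} => rfl⟩
  let T : EtModW.ModP Λ X → EtModW.ModP Λ X := fun H =>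
    ⨁ fun a => (pushPMod (v a)).obj ((restrPMod (v a)).obj H)
  let adj : ∀ a, restrPMod (Λ := Λ) (v a) ⊣ pushPMod (v a) := fun a =>
    (MorphismProperty.Over.mapPullbackAdj @WeaklyEtale ⊤ (v a) (hv' a)
      trivial).sheafPushforwardContinuous (Scheme.ProEt.topology (V a)) (Scheme.ProEt.topology X)
  let η : ∀ H : EtModW.ModP Λ X, H ⟶ T H := fun H => biproduct.lift fun a => (adj a).unit.app H
  have hmono : ∀ H, Mono (η H) := fun H => ⟨fun {Z} α β hαβ => hom_ext_awc fun W hW s => by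
    haveI := hW.1
    let o : ∀ a, (ProEtS.compP (v a)).obj ((ProEtS.bcP (v a)).obj W) ⟶ W := fun a =>
      (MorphismProperty.Over.mapPullbackAdj @WeaklyEtale ⊤ (v a) (hv' a) trivial).counit.app W
    haveI : ∀ a, IsAffine ((ProEtS.compP (v a)).obj ((ProEtS.bcP (v a)).obj W)).left := fun a =>
      inferInstanceAs (IsAffine (pullback (sHom W) (v a)))
    have hcov : Sieve.ofArrows _ o ∈ Scheme.ProEt.topology X W := Et18.mem_topology_of_finite _ o fun x => by
      obtain ⟨a, y, hy⟩ := hsurj (W.hom x)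
      obtain ⟨z, hz, -⟩ := Scheme.Pullback.exists_preimage_pullback (f := W.hom) (g := v a) x y hy.symm
      refine ⟨a, z, ?_⟩
      rw [show (o a).left = pullback.fst W.hom (v a) from rfl]
      exact hz
    refine eq_of_covering H hcov ?_
    rintro Z' b ⟨_, c, _, ⟨a⟩, rfl⟩
    have h1 : α ≫ (adj a).unit.app H = β ≫ (adj a).unit.app H := by
      simpa [η] using congrArg (fun k => k ≫ biproduct.π _ a) hαβ
    have hunit : ∀ t, ((secP W).map ((adj a).unit.app H)).hom t = H.obj.map (o a).op t := fun t => by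
      simp [adj, o, secP]
      rfl
    have h2 : H.obj.map (o a).op (((secP W).map α).hom s) = H.obj.map (o a).op (((secP W).map β).hom s) :=
      (hunit _).symm.trans ((congrArg (fun k => ((secP W).map k).hom s) h1).trans (hunit _))
    rw [op_comp, Functor.map_comp]
    exact congrArg (H.obj.map c.op) h2⟩
  have hT : ∀ H, (∀ a, Cl ((restrPMod (Λ := Λ) (v a)).obj H)) → Cl (T H) := fun H hH => by
    have h := fun a => show Cl ((pushPMod (Λ := Λ) (v a)).obj ((restrPMod (v a)).obj H)) by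
      obtain ⟨A, ⟨e⟩⟩ := hH a
      haveI := isIso_betaMod' (Λ := Λ) (v a) A
      exact ⟨_, ⟨asIso (betaMod' Λ (v a) A) ≪≫ (pushPMod (v a)).mapIso e⟩⟩
    choose A e using h
    exact ⟨⨁ A, ⟨(EtModW.epsPullMod Λ X).mapBiproduct A ≪≫ biproduct.mapIso fun a => (e a).some⟩⟩
  have hGa : ∀ a, Cl ((restrPMod (Λ := Λ) (v a)).obj G) := fun a => by
    obtain ⟨i⟩ := hG a
    exact Cl.of_iso ((pullRestrPIso Λ (v a)).app G)
      ⟨_, ⟨(cstEpsIso (X := V a) Λ).app (M a) ≪≫ i.symm⟩⟩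
  have hcok : ∀ {Y : Scheme.{u}} [ProEtS.EpsCont Y] {H K : EtModW.ModP Λ Y} (φ : H ⟶ K), Cl H → Cl K →
      Cl (kernel φ) ∧ Cl (cokernel φ) := by
    intro Y _ H K φ hH hK
    obtain ⟨A, ⟨e⟩⟩ := hH
    obtain ⟨B, ⟨e'⟩⟩ := hK
    let ψ : A ⟶ B := (EtModW.epsPullMod Λ Y).preimage (e.hom ≫ φ ≫ e'.inv)
    have w : (EtModW.epsPullMod Λ Y).map ψ ≫ e'.hom = e.hom ≫ φ := by
      rw [Functor.map_preimage, Category.assoc, Category.assoc, Iso.inv_hom_id, Category.comp_id]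
    exact ⟨⟨_, ⟨PreservesKernel.iso (EtModW.epsPullMod Λ Y) ψ ≪≫ kernel.mapIso _ φ e e' w⟩⟩,
      ⟨_, ⟨PreservesCokernel.iso (EtModW.epsPullMod Λ Y) ψ ≪≫ cokernel.mapIso _ φ e e' w⟩⟩⟩
  let Q := cokernel (η G)
  have hQ : ∀ a, Cl ((restrPMod (Λ := Λ) (v a)).obj Q) := fun a => by
    haveI : PreservesColimitsOfSize.{0, 0} (restrPMod (Λ := Λ) (v a)) := (adj a).leftAdjoint_preservesColimits
    haveI : (restrPMod (Λ := Λ) (v a)).Additive := (adj a).left_adjoint_additive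
    refine Cl.of_iso (PreservesCokernel.iso (restrPMod (Λ := Λ) (v a)) (η G)).symm
      (hcok _ (hGa a) (Cl.of_iso ((pullRestrPIso Λ (v a)).app _) (Cl.pull (v a) (hT G hGa)))).2
  haveI := hmono G
  haveI := hmono Q
  have hker := (hcok (cokernel.π (η G) ≫ η Q) (hT G hGa) (hT Q hQ)).1
  exact Cl.of_iso (kernelCompMono _ _ ≪≫
    (IsLimit.conePointUniqueUpToIso (Abelian.monoIsKernelOfCokernel _ (colimit.isColimit _))
      (kernelIsKernel (cokernel.π (η G)))).symm) hker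

/-- Locally constant sheaves of finitely presented modules are classical. -/
theorem isIso_counit_of_isFPLocConstP {G : EtModW.ModP Λ X} (hG : EtModW.IsFPLocConstP Λ G) :
    IsIso ((epsAdjMod (X := X) Λ).counit.app G) := by
  refine isIso_counit_of_affine G fun U hU => ?_
  haveI := ProEtWC.pCont U.ι
  haveI := EtCmp.epsCont U.toScheme
  haveI : IsAffine U.toScheme := hU
  obtain ⟨n, V, hV, v, hv, M, hs, h⟩ := finTriv_of_isFPLocConstP hG hU
  haveI := hV
  haveI := hv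
  exact cl_of_triv _ V v M hs fun a => (trivP_pull_iff U.ι (v a) G (M a)).mpr (h a).2

end Classical

section Etale

/-- The stalk map at any geometric point is detected at the standard one. -/
theorem isIso_stalk_iff {F G : EtModW.Mod Λ X} (φ : F ⟶ G) {Ω : Type u} [Field Ω] [IsSepClosed Ω]
    (ξ : Spec (CommRingCat.of Ω) ⟶ X) (x : X) (h : ξ default = x) :
    IsIso ((EtModW.stalk Λ ξ).map φ) ↔ IsIso ((EtModW.stalk Λ (sepPoint X x)).map φ) := by
  obtain ⟨σ, rfl⟩ := exists_fac_sepPoint ξ x h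
  exact NatIso.isIso_map_iff (sheafFiberIsoOfIso (A := ModuleCat.{u + 1} Λ) (extendPointIso σ (sepPoint X x))) φ

/-- The iso locus of a map between locally constant sheaves of finite type is open. -/
theorem isOpen_isoLocus {F G : EtModW.Mod Λ X} (φ : F ⟶ G) (hF : EtModW.IsFTLocConst Λ F)
    {P : ModuleCat.{u + 1} Λ → Prop} (hG : Mod.LocTriv P G) :
    IsOpen {x : X | IsIso ((EtModW.stalk Λ (sepPoint X x)).map φ)} := by
  refine isOpen_iff_forall_mem_open.mpr fun x hx => ?_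
  obtain ⟨W, w, A, B, h, α, β, hw, -, -, e⟩ := Mod.exists_nhd_hom φ hF hG x
  haveI : Etale W.hom := W.prop
  have key : ∀ y : W.left, IsIso ((EtModW.stalk Λ (sepPoint X (W.hom y))).map φ) ↔ IsIso h := fun y => by
    let η := sepPoint W.left y
    rw [← isIso_stalk_iff φ (η ≫ W.hom) (W.hom y) (congrArg W.hom (sepPoint_default W.left y))]
    rw [← NatIso.isIso_map_iff (Mod.stalkPullIso Λ W.hom η) φ]
    show IsIso ((EtModW.stalk Λ η).map ((EtModW.pull Λ W.hom).map φ)) ↔ _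
    rw [show (EtModW.pull Λ W.hom).map φ = α.hom ≫ (Mod.cst Λ W.left).map h ≫ β.inv by
      rw [← Category.assoc, ← e, Category.assoc, Iso.hom_inv_id, Category.comp_id], Functor.map_comp,
      Functor.map_comp]
    have hnat := Mod.cstGerm_naturality η h
    constructor
    · intro hi
      haveI := hi
      haveI : IsIso ((EtModW.stalk Λ η).map ((Mod.cst Λ W.left).map h) ≫ (EtModW.stalk Λ η).map β.inv) :=
        IsIso.of_isIso_comp_left ((EtModW.stalk Λ η).map α.hom) _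
      haveI : IsIso ((EtModW.stalk Λ η).map ((Mod.cst Λ W.left).map h)) :=
        IsIso.of_isIso_comp_right _ ((EtModW.stalk Λ η).map β.inv)
      haveI : IsIso (h ≫ Mod.cstGerm η B) := by rw [← hnat]; infer_instance
      exact IsIso.of_isIso_comp_right h (Mod.cstGerm η B)
    · intro hi
      haveI := hi
      haveI : IsIso (Mod.cstGerm η A ≫ (EtModW.stalk Λ η).map ((Mod.cst Λ W.left).map h)) := by
        rw [hnat]; infer_instance
      haveI : IsIso ((EtModW.stalk Λ η).map ((Mod.cst Λ W.left).map h)) :=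
        IsIso.of_isIso_comp_left (Mod.cstGerm η A) _
      infer_instance
  have hh : IsIso h := (key w).mp (by rw [hw]; exact hx)
  refine ⟨Set.range W.hom, ?_, W.hom.isOpenMap.isOpen_range, ⟨w, hw⟩⟩
  rintro _ ⟨y, rfl⟩
  exact (key y).mpr hh

/-- An étale sheaf trivialised by weakly étale affines is locally constant of finite presentation. -/
theorem locTriv_of_weaklyEtale (E : EtModW.Mod Λ X)
    (h : ∀ U : X.Opens, IsAffineOpen U → ∃ (n : ℕ) (V : Fin n → Scheme.{u}) (_ : ∀ a, IsAffine (V a))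
      (v : ∀ a, V a ⟶ U.toScheme) (_ : ∀ a, WeaklyEtale (v a)) (M : Fin n → ModuleCat.{u + 1} Λ),
      (∀ y : U.toScheme, ∃ a, y ∈ Set.range (v a)) ∧
        ∀ a, Module.FinitePresentation Λ (M a) ∧ Mod.Triv (v a ≫ U.ι) E (M a)) :
    Mod.LocTriv (fun A => Module.FinitePresentation Λ A) E := by
  intro x
  obtain ⟨_, ⟨U, hU, rfl⟩, hxU, -⟩ := X.isBasis_affineOpens.exists_subset_of_mem_open (Set.mem_univ x) isOpen_univ
  let U : X.Opens := U
  obtain ⟨n, V, hV, v, hv, M, hs, hM⟩ := h U hU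
  obtain ⟨a₀, y₀, hy₀⟩ := hs ⟨x, hxU⟩
  let η := sepPoint (V a₀) y₀
  let ξ := η ≫ v a₀ ≫ U.ι
  obtain ⟨e₀⟩ := Mod.nonempty_stalk_iso (hM a₀).2 η
  haveI : Module.FinitePresentation Λ ((EtModW.stalk Λ ξ).obj E) := by
    haveI := (hM a₀).1
    exact Module.FinitePresentation.of_equiv e₀.symm.toLinearEquiv
  obtain ⟨W, w, hw, ψ, hψ⟩ := Mod.exists_nhd_isIso_stalk (G := E) ξ
  let w₀ : W.left := w default
  have hw₀ : W.hom w₀ = x := by
    have := congrArg (fun k : _ ⟶ X => k default) hw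
    refine this.trans ?_
    show U.ι (v a₀ (η default)) = x
    rw [sepPoint_default, hy₀]
    rfl
  haveI : Etale W.hom := W.prop
  obtain ⟨_, ⟨W₁, hW₁, rfl⟩, hw₁, hW₁U⟩ := W.left.isBasis_affineOpens.exists_subset_of_mem_open
    (show w₀ ∈ ((W.hom ⁻¹ᵁ U : W.left.Opens) : Set W.left) by show W.hom w₀ ∈ U; rw [hw₀]; exact hxU) (W.hom ⁻¹ᵁ U).2
  let W₁ : W.left.Opens := W₁
  have hsub : Set.range (W₁.ι ≫ W.hom) ⊆ Set.range U.ι := by
    rw [Scheme.Opens.range_ι]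
    rintro _ ⟨z, rfl⟩
    exact hW₁U z.2
  let r : W₁.toScheme ⟶ U.toScheme := IsOpenImmersion.lift U.ι (W₁.ι ≫ W.hom) hsub
  have hr : r ≫ U.ι = W₁.ι ≫ W.hom := IsOpenImmersion.lift_fac _ _ _
  haveI : IsAffine W₁.toScheme := hW₁
  haveI : IsAffine U.toScheme := hU
  let ψ₁ := (EtModW.pull Λ W₁.ι).map ψ
  let A := (EtModW.stalk Λ ξ).obj E
  haveI : Module.Finite Λ A := inferInstance
  let F₁ := (EtModW.pull Λ W₁.ι).obj ((Mod.cst Λ W.left).obj A)
  have hF₁ : EtModW.IsFTLocConst Λ F₁ :=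
    Mod.isFTLocConst_of_iso (Mod.isFTLocConst_cst A) ((modPullConstIso Λ W₁.ι).app A).symm
  let Lo : Set W₁.toScheme := {z | IsIso ((EtModW.stalk Λ (sepPoint W₁.toScheme z)).map ψ₁)}
  let P : Fin n → Scheme.{u} := fun a => pullback r (v a)
  let p : ∀ a, P a ⟶ W₁.toScheme := fun a => pullback.fst r (v a)
  haveI := hV
  haveI := hv
  haveI : ∀ a, Flat (p a) := fun a => inferInstance
  let D : (∐ P) ⟶ W₁.toScheme := Sigma.desc p
  haveI : Flat D := IsZariskiLocalAtSource.sigmaDesc fun a => inferInstance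
  haveI : Surjective D := ⟨fun z => by
    obtain ⟨a, y, hy⟩ := hs (r z)
    obtain ⟨q, hq, -⟩ := Scheme.Pullback.exists_preimage_pullback (f := r) (g := v a) z y hy.symm
    refine ⟨Sigma.ι P a q, ?_⟩
    rw [← Scheme.Hom.comp_apply, Sigma.ι_desc]
    exact hq⟩
  haveI : CompactSpace ↥(∐ P) := inferInstance
  haveI : QuasiCompact D := quasiCompact_of_compactSpace D
  have hLo : IsOpen Lo := by
    rw [← (Flat.isQuotientMap_of_surjective D).isOpen_preimage]
    refine isOpen_iff_forall_mem_open.mpr fun q hq => ?_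
    obtain ⟨a, z, rfl⟩ := (sigmaOpenCover P).exists_eq q
    have hGa : Mod.LocTriv (fun B => Module.FinitePresentation Λ B)
        ((EtModW.pull Λ (p a)).obj ((EtModW.pull Λ W₁.ι).obj ((EtModW.pull Λ W.hom).obj E))) := fun t => by
      refine ⟨EtCoh.top _, t, M a, rfl, (hM a).1, ?_⟩
      rw [Mod.triv_pull_iff, Mod.triv_pull_iff, Mod.triv_pull_iff]
      refine (hM a).2.comp (pullback.snd r (v a)) ?_
      rw [← Category.assoc (pullback.snd r (v a)), ← pullback.condition, Category.assoc, hr]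
      exact (Category.id_comp _).symm
    have hFa : EtModW.IsFTLocConst Λ ((EtModW.pull Λ (p a)).obj F₁) := Mod.isFTLocConst_pull hF₁ (p a)
    have hop := isOpen_isoLocus ((EtModW.pull Λ (p a)).map ψ₁) hFa hGa
    have hpre : ∀ t : P a, t ∈ {t | IsIso ((EtModW.stalk Λ (sepPoint (P a) t)).map ((EtModW.pull Λ (p a)).map ψ₁))} ↔
        D (Sigma.ι P a t) ∈ Lo := fun t => by
      rw [show D (Sigma.ι P a t) = p a t by rw [← Scheme.Hom.comp_apply, Sigma.ι_desc]]
      show IsIso ((EtModW.pull Λ (p a) ⋙ EtModW.stalk Λ (sepPoint (P a) t)).map ψ₁) ↔ _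
      rw [NatIso.isIso_map_iff (Mod.stalkPullIso Λ (p a) (sepPoint (P a) t)) ψ₁]
      exact isIso_stalk_iff ψ₁ _ _ (congrArg (p a) (sepPoint_default (P a) t))
    refine ⟨Sigma.ι P a '' {t | IsIso ((EtModW.stalk Λ (sepPoint (P a) t)).map ((EtModW.pull Λ (p a)).map ψ₁))},
      ?_, (Sigma.ι P a).isOpenEmbedding.isOpenMap _ hop, ⟨z, (hpre z).mpr hq, rfl⟩⟩
    rintro _ ⟨t, ht, rfl⟩
    exact (hpre t).mp ht
  let O : W₁.toScheme.Opens := ⟨Lo, hLo⟩
  have hmem : (⟨w₀, hw₁⟩ : W₁.toScheme) ∈ Lo := by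
    let z := sepPoint W₁.toScheme ⟨w₀, hw₁⟩
    show IsIso ((EtModW.stalk Λ z).map ψ₁)
    refine (NatIso.isIso_map_iff (Mod.stalkPullIso Λ W₁.ι z) ψ).mpr ?_
    refine (isIso_stalk_iff ψ (z ≫ W₁.ι) w₀ (congrArg W₁.ι (sepPoint_default _ _))).mpr ?_
    exact (isIso_stalk_iff ψ w w₀ rfl).mp hψ
  let U' : X.Etale := Scheme.Etale.mk ((O.ι ≫ W₁.ι) ≫ W.hom)
  haveI hiso : IsIso ((EtModW.pull Λ (O.ι ≫ W₁.ι)).map ψ) := Mod.isIso_of_stalks _ fun t => by
    refine (NatIso.isIso_map_iff (Mod.stalkPullIso Λ (O.ι ≫ W₁.ι) (sepPoint O.toScheme t)) ψ).mpr ?_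
    have hz : IsIso ((EtModW.stalk Λ (sepPoint W₁.toScheme (O.ι t))).map ψ₁) := t.2
    rw [← isIso_stalk_iff ψ₁ (sepPoint O.toScheme t ≫ O.ι) (O.ι t) (congrArg O.ι (sepPoint_default _ _))] at hz
    have := (NatIso.isIso_map_iff (Mod.stalkPullIso Λ W₁.ι (sepPoint O.toScheme t ≫ O.ι)) ψ).mp hz
    rwa [Category.assoc] at this
  refine ⟨U', ⟨⟨w₀, hw₁⟩, hmem⟩, A, hw₀, inferInstance, ?_⟩
  exact ((Mod.triv_pull_iff W.hom (O.ι ≫ W₁.ι) E A).mp
    ⟨(asIso ((EtModW.pull Λ (O.ι ≫ W₁.ι)).map ψ)).symm ≪≫ (modPullConstIso Λ (O.ι ≫ W₁.ι)).app A⟩)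

theorem isFPLocConst_iff {F : EtModW.Mod Λ X} :
    EtModW.IsFPLocConst Λ F ↔ Mod.LocTriv (fun A => Module.FinitePresentation Λ A) F := by
  constructor
  · rintro ⟨ι, U, hU, h⟩ x
    obtain ⟨i, y, hy⟩ := hU x
    obtain ⟨M, _, _, hM, e⟩ := h i
    exact ⟨U i, y, ModuleCat.of Λ M, hy, hM, (nonempty_modRestr_iso_const_iff Λ _ F _).mp e⟩
  · intro h
    choose U y A hy hA e using h
    exact ⟨X, U, fun x => ⟨x, y x, hy x⟩, fun x => ⟨(A x : Type (u + 1)), inferInstance, inferInstance, hA x,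
      (nonempty_modRestr_iso_const_iff Λ _ F _).mpr (e x)⟩⟩

variable [ProEtS.EpsCont X]

/-- `ε⁻¹` preserves local constancy. -/
theorem isFPLocConstP_eps {F : EtModW.Mod Λ X} (hF : EtModW.IsFPLocConst Λ F) :
    EtModW.IsFPLocConstP Λ ((EtModW.epsPullMod Λ X).obj F) := by
  obtain ⟨ι, U, hU, h⟩ := hF
  refine ⟨ι, fun i => (ProEtS.eps X).obj (U i), ?_, fun i => ?_⟩
  · refine ProEtWC.EpsUnit.mem_of_etale_points _ fun y => ?_
    obtain ⟨i, z, hz⟩ := hU y
    exact ⟨(ProEtS.eps X).obj (U i), MorphismProperty.Over.homMk (U i).hom, (U i).prop,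
      Sieve.ofArrows_mk _ _ i, z, hz⟩
  · obtain ⟨M, _, _, hM, e⟩ := h i
    haveI := EtCmp.epsCont (U i).left
    refine ⟨M, inferInstance, inferInstance, hM, ?_⟩
    refine (nonempty_over_iso_const_iff ((ProEtS.eps X).obj (U i)) Λ _ _).mpr ?_
    exact (trivP_eps_iff (X := X) (U i).hom F _).mpr ((nonempty_modRestr_iso_const_iff Λ _ F _).mp e)

/-- **Locally constant sheaves of finitely presented modules on the pro-étale site come from the étale site.** -/
theorem exists_etale_of_isFPLocConstP {G : EtModW.ModP Λ X} (hG : EtModW.IsFPLocConstP Λ G) :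
    ∃ F : EtModW.Mod Λ X, EtModW.IsFPLocConst Λ F ∧ Nonempty ((EtModW.epsPullMod Λ X).obj F ≅ G) := by
  haveI := isIso_counit_of_isFPLocConstP hG
  let c := asIso ((epsAdjMod (X := X) Λ).counit.app G)
  refine ⟨pushMod.obj G, isFPLocConst_iff.mpr (locTriv_of_weaklyEtale _ fun U hU => ?_), ⟨c⟩⟩
  obtain ⟨n, V, hV, v, hv, M, hs, h⟩ := finTriv_of_isFPLocConstP hG hU
  exact ⟨n, V, hV, v, hv, M, hs, fun a => ⟨(h a).1, (trivP_eps_iff _ _ _).mp ((h a).2.of_iso c.symm)⟩⟩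

end Etale

end Groth.Agent.Et18.ModP
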