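import Groth.Agent.Et18.ModP.ExtZeroAdic
import Groth.Agent.ProEtWC.ShortExact

/-!
# The localisation sequence of pro-étale sheaves of modules
-/

universe u

open CategoryTheory CategoryTheory.Limits AlgebraicGeometry Opposite MorphismProperty

set_option autoImplicit false
set_option linter.all false
set_option backward.isDefEq.respectTransparency.types false
set_option backward.isDefEq.respectTransparency false
set_option synthInstance.maxHeartbeats 400000
set_option maxHeartbeats 1000000

namespace Groth.Agent.Et18.ModP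

open ModEps ProEtWC

variable {Λ : Type (u + 1)} [CommRing Λ]

/-- A presheaf of abelian groups sending finite disjoint decompositions of an affine weakly contractible
object to products has the same sections there as its sheafification. -/
theorem toSheafify_bijective_mod {X : Scheme.{u}} (P : X.ProEtᵒᵖ ⥤ (ModuleCat.{u + 1} Λ))
    (W : X.ProEt) [IsAffine W.left] (hW : ProEtS.IsWC W)
    (hP : ∀ (n : ℕ) (Q : Fin n → X.ProEt) (g : ∀ k, Q k ⟶ W), IsColimit (Cofan.mk W g) →
      Function.Bijective fun (a : P.obj (op W)) k => P.map (g k).op a) :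
    Function.Bijective ((toSheafify (Scheme.ProEt.topology X) P).app (op W)) := by
  have hR : ClopenRefined W := clopenRefined_of_wContractible (wContractible_of_isWC hW)
  have key : ∀ (n : ℕ) (S : Fin n → W.left.Opens),
      Pairwise (fun k l => Disjoint (S k : Set ↥W.left) (S l)) → (⋃ k, (S k : Set ↥W.left)) = Set.univ →
      Function.Bijective fun (a : P.obj (op W)) k => P.map (openIncl W (S k)).op a := by
    intro n S hd hc
    haveI : ∀ k, IsOpenImmersion (openIncl W (S k)).left :=
      fun k => inferInstanceAs (IsOpenImmersion (S k).ι)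
    obtain ⟨h⟩ := nonempty_isColimit_cofan (fun k => openObj W (S k)) (fun k => openIncl W (S k))
      (fun x => by
        obtain ⟨k, hk⟩ := Set.mem_iUnion.1 (hc.ge (Set.mem_univ x))
        exact ⟨k, ⟨x, hk⟩, rfl⟩)
      (fun i j hij => by
        refine Set.disjoint_left.2 ?_
        rintro _ ⟨a, rfl⟩ ⟨b, hb⟩
        exact Set.disjoint_left.1 (hd hij) a.2 (by
          show a.1 ∈ (S j : Set _)
          rw [show a.1 = b.1 from hb.symm]
          exact b.2))
    exact hP n _ _ h
  constructor
  · intro a b hab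
    obtain ⟨n, S, -, hd, hc, hS⟩ := hR _
      (Presheaf.equalizerSieve_mem (Scheme.ProEt.topology X) (toSheafify (Scheme.ProEt.topology X) P) a b hab)
    exact (key n S hd hc).1 (funext fun k => hS k)
  · intro s
    obtain ⟨n, S, -, hd, hc, hS⟩ := hR _
      (Presheaf.imageSieve_mem (Scheme.ProEt.topology X) (toSheafify (Scheme.ProEt.topology X) P) s)
    choose t ht using fun k => hS k
    obtain ⟨a, ha⟩ := (key n S hd hc).2 t
    haveI : ∀ k, IsOpenImmersion (openIncl W (S k)).left :=
      fun k => inferInstanceAs (IsOpenImmersion (S k).ι)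
    refine ⟨a, (isSheafFor_disjoint (fun k => openObj W (S k)) (fun k => openIncl W (S k)) (fun x => by
        obtain ⟨k, hk⟩ := Set.mem_iUnion.1 (hc.ge (Set.mem_univ x))
        exact ⟨k, ⟨x, hk⟩, rfl⟩)
      ((sheafCompose (Scheme.ProEt.topology X) (CategoryTheory.forget (ModuleCat.{u + 1} Λ))).obj
        ((presheafToSheaf (Scheme.ProEt.topology X) _).obj P))).isSeparatedFor.ext ?_⟩
    rintro _ _ ⟨k⟩
    exact (((toSheafify (Scheme.ProEt.topology X) P).naturality_apply (openIncl W (S k)).op a).symm.trans
      (congrArg _ (congrFun ha k))).trans (ht k)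

variable {X Y : Scheme.{u}} (f : Y ⟶ X)

/-- The presheaf pullback of an abelian sheaf sends finite disjoint unions to products. -/
theorem lan_bijective_disjoint_mod (F : EtModW.ModP Λ X) {W : Y.ProEt} {n : ℕ} (P : Fin n → Y.ProEt)
    (g : ∀ k, P k ⟶ W) (hc : IsColimit (Cofan.mk W g)) :
    Function.Bijective fun (a : ((ProEtS.bcP f).op.lan.obj F.obj).obj (op W)) k =>
      ((ProEtS.bcP f).op.lan.obj F.obj).map (g k).op a := by
  let G := ProEtS.bcP f
  let F' := (sheafCompose (Scheme.ProEt.topology X) (CategoryTheory.forget (ModuleCat.{u + 1} Λ))).obj F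
  let L : Y.ProEtᵒᵖ ⥤ Type (u + 1) := G.op.lan.obj F.obj ⋙ CategoryTheory.forget (ModuleCat.{u + 1} Λ)
  let η : F'.obj ⟶ G.op ⋙ L := Functor.whiskerRight (G.op.lanUnit.app F.obj) (CategoryTheory.forget (ModuleCat.{u + 1} Λ))
  have hL : (Functor.LeftExtension.mk L η).IsPointwiseLeftKanExtension := fun W' => by
    haveI : RepresentablyCoflat G.op := (representablyCoflat_op_iff G).2 inferInstance
    have h0 := (Functor.isPointwiseLeftKanExtensionOfIsLeftKanExtension (G.op.lan.obj F.obj) (G.op.lanUnit.app F.obj)) W'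
    haveI : PreservesFilteredColimitsOfSize.{u, u + 1} (CategoryTheory.forget (ModuleCat.{u + 1} Λ)) :=
      preservesFilteredColimitsOfSize_shrink.{u + 1, u + 1, u, u + 1} _
    haveI : PreservesColimitsOfShape (CostructuredArrow G.op W') (CategoryTheory.forget (ModuleCat.{u + 1} Λ)) :=
      PreservesFilteredColimitsOfSize.preserves_filtered_colimits _
    exact IsColimit.ofIsoColimit (isColimitOfPreserves (CategoryTheory.forget (ModuleCat.{u + 1} Λ)) h0)
      (Cocone.ext (Iso.refl _) fun j => by ext x; rfl)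
  exact lan_bijective_disjoint f F' η hL P g hc

variable {Z : Scheme.{u}} (i : Z ⟶ X) [IsClosedImmersion i] [ProEtS.PCont i]

/-- On an affine weakly contractible object whose closed points lie on `Z`, sections of a sheaf and of its
inverse image to `Z` agree. -/
theorem unit_bijective_mod (V : X.ProEt) [IsAffine V.left]
    (hV : ∀ v : V.left, ∃ z : V.left, V.hom z ∈ Set.range i.base ∧ v ⤳ z)
    (hwc : EtPBC.IsWContractible Γ(V.left, ⊤)) (F : EtModW.ModP Λ X) :
    Function.Bijective (((pullPModAdj (Λ := Λ) i).unit.app F).hom.app (op V)) := by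
  let G := ProEtS.bcP i
  let A := (ModuleCat.{u + 1} Λ)
  let J := Scheme.ProEt.topology X
  let K := Scheme.ProEt.topology Z
  haveI := isAffine_bc i V
  let adj' := Functor.sheafPullbackConstruction.sheafAdjunctionContinuous G A J K
  let adj := Functor.sheafAdjunctionContinuous G A J K
  have h1 : Function.Bijective ((adj'.unit.app F).hom.app (op V)) := by
    have hu : (adj'.unit.app F).hom = G.op.lanUnit.app F.obj ≫
        Functor.whiskerLeft G.op (toSheafify K (G.op.lan.obj F.obj)) := by
      show (sheafToPresheaf J A).map (adj'.unit.app F) = _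
      simp only [adj', Functor.sheafPullbackConstruction.sheafAdjunctionContinuous]
      erw [Adjunction.map_restrictFullyFaithful_unit_app]
      simp [Adjunction.comp_unit_app, Functor.lanAdjunction_unit, sheafificationAdjunction_unit_app]
      rfl
    have ha : IsIso ((G.op.lanUnit.app F.obj).app (op V)) :=
      isIso_unit_app_of_closedPoints i V hV hwc F.obj _
        (Functor.isPointwiseLeftKanExtensionOfIsLeftKanExtension _ _)
    have hb := toSheafify_bijective_mod (G.op.lan.obj F.obj) (G.obj V)
      ((wContractible_iff_isWC _).1 (wContractible_bc i V hV hwc))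
      (fun n Q g hc => lan_bijective_disjoint_mod i F Q g hc)
    rw [hu]
    exact hb.comp ((ConcreteCategory.isIso_iff_bijective _).1 ha)
  have h2 := adj.unit_leftAdjointUniq_hom_app adj' F
  have h3 : Function.Bijective (((G.sheafPushforwardContinuous A J K).map
      ((adj.leftAdjointUniq adj').hom.app F)).hom.app (op V)) :=
    (ConcreteCategory.isIso_iff_bijective _).1
      (((sheafToPresheaf J A).mapIso ((G.sheafPushforwardContinuous A J K).mapIso
        ((adj.leftAdjointUniq adj').app F))).app (op V)).isIso_hom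
  rw [← h2] at h1
  exact (Function.Bijective.of_comp_iff' h3 _).1 h1

section SE

variable {X : Scheme.{u}}

variable {Z U : Scheme.{u}} (i : Z ⟶ X) [IsClosedImmersion i]
  (j : U ⟶ X) [IsOpenImmersion j] [QuasiCompact j]

theorem shortExact_ext_push (hc : Set.range j.base = (Set.range i.base)ᶜ)
    [ProEtS.JPCont j] [ProEtS.PCont i] (F : EtModW.ModP Λ X) :
    ∃ h : (extPModAdj (Λ := Λ) j).counit.app F ≫ (pullPModAdj (Λ := Λ) i).unit.app F = 0,
      (ShortComplex.mk _ _ h).ShortExact := by
  let a := (extPModAdj (Λ := Λ) j).counit.app F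
  let b := (pullPModAdj (Λ := Λ) i).unit.app F
  let E := (extPMod (Λ := Λ) j).obj ((restrPMod (Λ := Λ) j).obj F)
  let Q := (pushPMod (Λ := Λ) i).obj ((pullPMod (Λ := Λ) i).obj F)
  have key : ∀ (V : X.ProEt), IsAffine V.left → EtPBC.IsWContractible Γ(V.left, ⊤) →
      (∀ x, b.hom.app (op V) (a.hom.app (op V) x) = 0) ∧ Function.Injective (a.hom.app (op V)) ∧
      (∀ y, b.hom.app (op V) y = 0 → ∃ x, a.hom.app (op V) x = y) ∧ Function.Surjective (b.hom.app (op V)) := by
    intro V hV hwc
    haveI := hV
    obtain ⟨W, W', hW, hW', hcompl, hWU, hWZ⟩ := exists_clopen_split j V hwc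
    let P : Fin 2 → X.ProEt := ![openObj V W, openObj V W']
    let p : ∀ k, P k ⟶ V := Fin.cons (openIncl V W) (Fin.cons (openIncl V W') finZeroElim)
    haveI : ∀ k, IsOpenImmersion (p k).left := Fin.forall_fin_two.2
      ⟨inferInstanceAs (IsOpenImmersion W.ι), inferInstanceAs (IsOpenImmersion W'.ι)⟩
    have hcv : ∀ x : V.left, ∃ k, x ∈ Set.range (p k).left := fun x => by
      by_cases hx : x ∈ W
      · exact ⟨0, ⟨x, hx⟩, rfl⟩
      · exact ⟨1, ⟨x, hcompl.symm.le hx⟩, rfl⟩
    have h01 : Disjoint (Set.range (p 0).left) (Set.range (p 1).left) := by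
      refine Set.disjoint_left.2 ?_
      rintro _ ⟨y, rfl⟩ ⟨z, hz⟩
      exact (hcompl.le z.2 : z.1 ∉ (W : Set V.left)) ((show z.1 = y.1 from hz) ▸ y.2)
    have hd : Pairwise fun k l => Disjoint (Set.range (p k).left) (Set.range (p l).left) := by
      intro k l hkl
      fin_cases k <;> fin_cases l
      · exact absurd rfl hkl
      · exact h01
      · exact h01.symm
      · exact absurd rfl hkl
    let cmp := sheafCompose (Scheme.ProEt.topology X) (CategoryTheory.forget (ModuleCat.{u + 1} Λ))
    have ext2 : ∀ (S : EtModW.ModP Λ X) (x y : secT S V),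
        S.obj.map (openIncl V W).op x = S.obj.map (openIncl V W).op y →
        S.obj.map (openIncl V W').op x = S.obj.map (openIncl V W').op y → x = y := by
      intro S x y h0 h1
      refine (isSheafFor_disjoint P p hcv (cmp.obj S)).isSeparatedFor.ext ?_
      rintro _ _ ⟨k⟩
      fin_cases k
      · exact h0
      · exact h1
    have glue2 : ∀ (S : EtModW.ModP Λ X) (s : secT S (openObj V W)) (t : secT S (openObj V W')),
        ∃ x : secT S V, S.obj.map (openIncl V W).op x = s ∧ S.obj.map (openIncl V W').op x = t := by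
      intro S s t
      obtain ⟨x, hx⟩ := exists_glue P p hcv hd (cmp.obj S) (Fin.cons s (Fin.cons t finZeroElim))
      exact ⟨x, hx 0, hx 1⟩
    haveI : IsAffine W'.toScheme := by
      have : IsClosedImmersion W'.ι := IsClosedImmersion.of_isPreimmersion _ (by rw [W'.range_ι]; exact hW'.1)
      exact isAffine_of_isAffineHom W'.ι
    haveI : IsAffine (openObj V W').left := inferInstanceAs (IsAffine W'.toScheme)
    -- the piece over `U`
    have hrange : Set.range (W.ι ≫ V.hom) ⊆ Set.range j.base := by
      rintro _ ⟨y, rfl⟩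
      exact hWU y.1 y.2
    let α : W.toScheme ⟶ U := IsOpenImmersion.lift j (W.ι ≫ V.hom) hrange
    have hα : α ≫ j = W.ι ≫ V.hom := IsOpenImmersion.lift_fac _ _ _
    haveI : WeaklyEtale α := MorphismProperty.of_postcomp (W := @WeaklyEtale) (W' := @WeaklyEtale) α j
      (inferInstanceAs (WeaklyEtale j)) (by show WeaklyEtale (α ≫ j); rw [hα]; infer_instance)
    let A : U.ProEt := Scheme.ProEt.mk α
    let e₁ : (ProEtS.compP j).obj A ⟶ openObj V W := MorphismProperty.Over.homMk (𝟙 _) (by
      show 𝟙 _ ≫ W.ι ≫ V.hom = α ≫ j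
      rw [Category.id_comp, hα]) trivial
    let e₂ : openObj V W ⟶ (ProEtS.compP j).obj A := MorphismProperty.Over.homMk (𝟙 _) (by
      show 𝟙 _ ≫ α ≫ j = W.ι ≫ V.hom
      rw [Category.id_comp, hα]) trivial
    let e : (ProEtS.compP j).obj A ≅ openObj V W :=
      ⟨e₁, e₂, (Scheme.ProEt.forget X ⋙ CategoryTheory.Over.forget X).map_injective (Category.id_comp _),
        (Scheme.ProEt.forget X ⋙ CategoryTheory.Over.forget X).map_injective (Category.id_comp _)⟩
    have haW : Function.Bijective (a.hom.app (op (openObj V W))) := by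
      haveI : IsIso (extPModAdj (Λ := Λ) j).unit := (extPModAdj (Λ := Λ) j).isIso_unit_of_iso (restrExtPModIso j)
      haveI : IsIso ((restrPMod (Λ := Λ) j).map a) := by
        have htri := (extPModAdj (Λ := Λ) j).right_triangle_components F
        exact IsIso.of_isIso_fac_left htri
      have h : Function.Bijective (a.hom.app (op ((ProEtS.compP j).obj A))) :=
        (ConcreteCategory.isIso_iff_bijective _).1
          (((sheafToPresheaf _ _).mapIso (asIso ((restrPMod (Λ := Λ) j).map a))).app (op A)).isIso_hom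
      have hnat := a.hom.naturality e.hom.op
      rw [← ConcreteCategory.isIso_iff_bijective] at h ⊢
      haveI := h
      haveI : IsIso (E.obj.map e.hom.op) := (E.obj.mapIso e.op).isIso_hom
      haveI : IsIso (F.obj.map e.hom.op) := (F.obj.mapIso e.op).isIso_hom
      haveI : IsIso (((𝟭 (EtModW.ModP Λ X)).obj F).obj.map e.hom.op) := ‹IsIso (F.obj.map e.hom.op)›
      haveI : IsIso (((restrPMod (Λ := Λ) j ⋙ extPMod (Λ := Λ) j).obj F).obj.map e.hom.op) :=
        ‹IsIso (E.obj.map e.hom.op)›
      haveI : IsIso (((restrPMod (Λ := Λ) j ⋙ extPMod (Λ := Λ) j).obj F).obj.map e.hom.op ≫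
          a.hom.app (op ((ProEtS.compP j).obj A))) := IsIso.comp_isIso' inferInstance h
      exact IsIso.of_isIso_fac_right hnat.symm
    have hQW : ∀ x y : secT Q (openObj V W), x = y := fun x y => by
      haveI : IsEmpty ((ProEtS.bcP i).obj (openObj V W)).left := ⟨fun w => by
        have hw : (openObj V W).hom (ProEtWC.bcFst i (openObj V W) w) ∈ Set.range i.base :=
          (ProEtWC.range_bcFst i (openObj V W)).le ⟨w, rfl⟩
        exact (hc.le (hrange ⟨_, rfl⟩)) hw⟩
      exact subsingleton_of_isEmpty
        ((sheafCompose (Scheme.ProEt.topology Z) (CategoryTheory.forget (ModuleCat.{u + 1} Λ))).obj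
          ((pullPMod (Λ := Λ) i).obj F)) ((ProEtS.bcP i).obj (openObj V W)) x y
    -- the piece over `Z`
    have hEW' : Subsingleton (secT E (openObj V W')) := by
      refine extPMod_subsingleton j _ j.opensRange.isOpen.isClosed_compl disjoint_compl_right (openObj V W') ?_ _
      intro v
      obtain ⟨z, hz, hzU, hvz⟩ := hWZ v.1 v.2
      exact ⟨⟨z, hz⟩, hzU, (subtype_specializes_iff _ _).2 hvz⟩
    have hbW' : Function.Bijective (b.hom.app (op (openObj V W'))) := by
      refine unit_bijective_mod i (openObj V W') (fun v => ?_) ?_ F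
      · obtain ⟨z, hz, hzU, hvz⟩ := hWZ v.1 v.2
        refine ⟨⟨z, hz⟩, ?_, (subtype_specializes_iff _ _).2 hvz⟩
        rw [hc, compl_compl] at hzU
        exact hzU
      · exact wContractible_of_clopen V W' hW' hwc
    have na : ∀ {T : X.ProEt} (g : T ⟶ V) (x : secT E V),
        F.obj.map g.op (a.hom.app (op V) x) = a.hom.app (op T) (E.obj.map g.op x) :=
      fun g x => (a.hom.naturality_apply g.op x).symm
    have nb : ∀ {T : X.ProEt} (g : T ⟶ V) (x : secT F V),
        Q.obj.map g.op (b.hom.app (op V) x) = b.hom.app (op T) (F.obj.map g.op x) :=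
      fun g x => (b.hom.naturality_apply g.op x).symm
    refine ⟨fun x => ext2 Q _ _ (hQW _ _) ?_, fun x y hxy => ext2 E _ _ ?_ (hEW'.elim _ _),
      fun y hy => ?_, fun z => ?_⟩
    · rw [nb, na, hEW'.elim (E.obj.map (openIncl V W').op x) 0, map_zero, map_zero, map_zero]
    · apply haW.1
      rw [← na, ← na, hxy]
    · obtain ⟨s, hs⟩ := haW.2 (F.obj.map (openIncl V W).op y)
      obtain ⟨x, hx, -⟩ := glue2 E s 0
      refine ⟨x, ext2 F _ _ (by rw [na, hx, hs]) ?_⟩
      rw [na, hEW'.elim (E.obj.map (openIncl V W').op x) 0, map_zero]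
      apply hbW'.1
      rw [map_zero, ← nb, hy, map_zero]
    · obtain ⟨t, ht⟩ := hbW'.2 (Q.obj.map (openIncl V W').op z)
      obtain ⟨y, -, hy⟩ := glue2 F 0 t
      exact ⟨y, ext2 Q _ _ (hQW _ _) (by rw [nb, hy, ht])⟩
  have hzero : a ≫ b = 0 := hom_ext_awc fun V hV x => by
    refine Eq.trans ?_ ((key V hV.1 hV.2).1 x |>.trans ?_)
    · rfl
    · rw [Functor.map_zero]; rfl
  refine ⟨hzero, ?_⟩
  haveI : Mono a := ⟨fun {T} g₁ g₂ h => hom_ext_awc fun V hV x =>
    (key V hV.1 hV.2).2.1 (congrArg (fun φ => φ.hom.app (op V) x) h)⟩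
  haveI : Epi b := epi_of_awc _ fun V hV => (key V hV.1 hV.2).2.2.2
  have hex : (ShortComplex.mk a b hzero).Exact := by
    rw [ShortComplex.exact_iff_epi_kernel_lift]
    refine epi_of_awc _ fun V hV k => ?_
    have hk : b.hom.app (op V) ((kernel.ι b).hom.app (op V) k) = 0 :=
      congrArg (fun φ => φ.hom.app (op V) k) (kernel.condition b)
    obtain ⟨x, hx⟩ := (key V hV.1 hV.2).2.2.1 _ hk
    refine ⟨x, (ModuleCat.mono_iff_injective ((secP V).map (kernel.ι b))).1 inferInstance ?_⟩
    refine Eq.trans ?_ hx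
    exact congrArg (fun φ => φ.hom.app (op V) x) (kernel.lift_ι b a hzero)
  exact { exact := hex, mono_f := ‹Mono a›, epi_g := ‹Epi b› }

end SE

end Groth.Agent.Et18.ModP
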