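import Groth.Agent.Et18.ModP.Push

/-!
# `ε⁻¹` commutes with quasi-compact quasi-separated direct images
-/

universe u

open CategoryTheory CategoryTheory.Limits AlgebraicGeometry Opposite

set_option backward.isDefEq.respectTransparency.types false
set_option backward.isDefEq.respectTransparency false
set_option synthInstance.maxHeartbeats 400000
set_option maxHeartbeats 1000000

namespace Groth.Agent.Et18.ModP

open ModEps

variable {Λ : Type (u + 1)} [CommRing Λ] {X Z : Scheme.{u}} (i : Z ⟶ X) [QuasiCompact i] [QuasiSeparated i]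
  [ProEtS.PCont i] [ProEtS.EpsCont X] [ProEtS.EpsCont Z]

variable (Λ) in
/-- The comparison `ε⁻¹ i_* ⟶ i_* ε⁻¹`. -/
noncomputable def betaMod' (E : EtModW.Mod Λ Z) :
    (EtModW.epsPullMod Λ X).obj ((EtModW.push Λ i).obj E) ⟶ (pushPMod i).obj ((EtModW.epsPullMod Λ Z).obj E) :=
  ((epsAdjMod (X := X) Λ).homEquiv _ _).symm
    ((EtModW.push Λ i).map ((epsAdjMod (X := Z) Λ).unit.app E) ≫ (pushModComm i).hom.app _)

theorem isIso_betaMod' (E : EtModW.Mod Λ Z) : IsIso (betaMod' Λ i E) := by
  let G := (EtModD.forgetToAb Λ Z).obj E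
  haveI : IsIso ((EtCmp.phi i).app G) := EtCmp.isIso_phi i G
  haveI : IsIso ((forgetP Λ).map (betaMod' Λ i E)) := by
    have key : (pullForget (X := X) Λ).app ((EtModW.push Λ i).obj E) ≫ (forgetP Λ).map (betaMod' Λ i E) =
        (EtCmp.phi i).app G ≫ (ProEtS.pushP i).map ((pullForget (X := Z) Λ).app E) := by
      apply ((ProEtS.epsAdj X).homEquiv _ _).injective
      refine ((ProEtS.epsAdj X).homEquiv_naturality_right _ _).trans ?_
      refine Eq.trans ?_ ((ProEtS.epsAdj X).homEquiv_naturality_right _ _).symm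
      have h1 : (EtModD.forgetToAb Λ X).map ((epsAdjMod (X := X) Λ).unit.app ((EtModW.push Λ i).obj E)) ≫
          (EtModD.forgetToAb Λ X).map ((pushMod (Λ := Λ)).map (betaMod' Λ i E)) =
          (EtModD.forgetToAb Λ X).map
            ((EtModW.push Λ i).map ((epsAdjMod (X := Z) Λ).unit.app E) ≫ (pushModComm i).hom.app _) := by
        rw [← Functor.map_comp]
        refine congrArg (EtModD.forgetToAb Λ X).map ?_
        exact ((epsAdjMod (X := X) Λ).homEquiv_unit _ _ _).symm.trans (Equiv.apply_symm_apply _ _)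
      refine (congrArg (fun k => k ≫ (ProEtS.epsPush X).map ((forgetP Λ).map (betaMod' Λ i E)))
        (Equiv.apply_symm_apply _ _)).trans ?_
      refine Eq.trans ?_ (congrArg (fun k => k ≫ (ProEtS.epsPush X).map ((ProEtS.pushP i).map
        ((pullForget (X := Z) Λ).app E))) (Equiv.apply_symm_apply _ _)).symm
      refine h1.trans ?_
      refine Sheaf.hom_ext (NatTrans.ext (funext fun V => ?_))
      refine ConcreteCategory.hom_ext _ _ fun x => ?_
      have h2 := congrArg (fun k => k.hom.app (op ((EtCoh.bc i).obj V.unop)) x) (unit_pullForget (X := Z) E)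
      refine Eq.trans ?_ h2.symm
      show (((EtModW.epsPullMod Λ Z).obj E).obj.map _).hom _ = _
      rw [show (NatIso.op (epsBcIso i)).hom.app V = 𝟙 _ from rfl]
      erw [CategoryTheory.Functor.map_id]
      rfl
    haveI : IsIso ((pullForget (X := X) Λ).app ((EtModW.push Λ i).obj E) ≫ (forgetP Λ).map (betaMod' Λ i E)) := by
      rw [key]; infer_instance
    exact IsIso.of_isIso_comp_left ((pullForget (X := X) Λ).app ((EtModW.push Λ i).obj E)) _
  exact isIso_of_reflects_iso _ (forgetP (X := X) Λ)

end Groth.Agent.Et18.ModP
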