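import Groth.Agent.Et18.ModP.Strata
import Groth.Agent.Et18.FLCMod
import Groth.Agent.Et18.ModP.PushQcqs
import Groth.Agent.Et18.DC.Generate
import Groth.Agent.ProEtWC.EpsSections
import Mathlib.CategoryTheory.Sites.Equivalence

/-!
# The localised pro-étale site at a weakly étale scheme; constant sheaves
-/

universe u

open CategoryTheory CategoryTheory.Limits AlgebraicGeometry Opposite

set_option backward.isDefEq.respectTransparency.types false
set_option backward.isDefEq.respectTransparency false
set_option synthInstance.maxHeartbeats 400000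
set_option maxHeartbeats 1000000

namespace Groth.Agent.Et18.ModP

open ModEps DC

variable {X : Scheme.{u}}

/-- Composition with a weakly étale morphism is continuous on small pro-étale sites. -/
theorem jpCont' {U : Scheme.{u}} (j : U ⟶ X) [hj : WeaklyEtale j] : ProEtS.JPCont j := by
  refine Functor.isContinuous_of_coverPreserving (F := ProEtS.compP j) ⟨?_⟩ ⟨fun {A S} hS => ?_⟩
  · intro ℱ Z T x hx Y₁ Y₂ W f₁ f₂ g₁ g₂ hg₁ hg₂ e
    haveI : WeaklyEtale (f₁.left ≫ Y₁.hom) :=
      MorphismProperty.of_postcomp (W := @WeaklyEtale) (W' := @WeaklyEtale) (f₁.left ≫ Y₁.hom) j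
        hj (by
          show WeaklyEtale ((f₁.left ≫ Y₁.hom) ≫ j)
          rw [Category.assoc, show f₁.left ≫ Y₁.hom ≫ j = W.hom from CategoryTheory.Over.w f₁.hom]
          exact W.prop)
    let V' : U.ProEt := Scheme.ProEt.mk (f₁.left ≫ Y₁.hom)
    let i : W ⟶ (ProEtS.compP j).obj V' := MorphismProperty.Over.homMk (𝟙 _) (by
      show 𝟙 _ ≫ (f₁.left ≫ Y₁.hom) ≫ j = W.hom
      rw [Category.id_comp, Category.assoc]
      exact CategoryTheory.Over.w f₁.hom) trivial
    let h₁ : V' ⟶ Y₁ := MorphismProperty.Over.homMk f₁.left rfl trivial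
    have e' : f₁.left ≫ g₁.left = f₂.left ≫ g₂.left := congrArg (fun k => k.left) e
    let h₂ : V' ⟶ Y₂ := MorphismProperty.Over.homMk f₂.left (by
      show f₂.left ≫ Y₂.hom = f₁.left ≫ Y₁.hom
      rw [← show g₁.left ≫ Z.hom = Y₁.hom from CategoryTheory.Over.w g₁.hom,
        ← show g₂.left ≫ Z.hom = Y₂.hom from CategoryTheory.Over.w g₂.hom]
      exact (Category.assoc _ _ _).symm.trans
        ((congrArg (fun t => t ≫ Z.hom) e'.symm).trans (Category.assoc _ _ _))) trivial
    have hh : h₁ ≫ g₁ = h₂ ≫ g₂ :=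
      (Scheme.ProEt.forget U ⋙ CategoryTheory.Over.forget U).map_injective e'
    have hc := hx h₁ h₂ hg₁ hg₂ hh
    have e₁ : i ≫ (ProEtS.compP j).map h₁ = f₁ :=
      (Scheme.ProEt.forget X ⋙ CategoryTheory.Over.forget X).map_injective (Category.id_comp _)
    have e₂ : i ≫ (ProEtS.compP j).map h₂ = f₂ :=
      (Scheme.ProEt.forget X ⋙ CategoryTheory.Over.forget X).map_injective (Category.id_comp _)
    rw [← e₁, ← e₂, op_comp, op_comp, Functor.map_comp, Functor.map_comp]
    exact congrArg (ℱ.obj.map i.op) hc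
  · rw [ProEtWC.mem_topology_iff_pushforward] at hS ⊢
    rw [← Sieve.functorPushforward_comp]
    exact hS

section OverSite

variable (U : X.ProEt)

/-- The structure morphism. -/
abbrev sHom : U.left ⟶ X := U.hom

instance weaklyEtale_structureHom : WeaklyEtale (sHom U) := U.prop

instance jpCont_structureHom : ProEtS.JPCont (sHom U) := jpCont' (sHom U)

instance pCont_structureHom : ProEtS.PCont (sHom U) := ProEtWC.pCont (sHom U)

/-- `V ↦ (V → U)`. -/
noncomputable def overProEt : U.left.ProEt ⥤ Over U where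
  obj V := Over.mk (MorphismProperty.Over.homMk V.hom rfl : (ProEtS.compP (sHom U)).obj V ⟶ U)
  map g := Over.homMk ((ProEtS.compP (sHom U)).map g)
    ((Scheme.ProEt.forget X ⋙ CategoryTheory.Over.forget X).map_injective (MorphismProperty.Over.w g))

instance : (overProEt U).Faithful where
  map_injective {V W} a b h := (Scheme.ProEt.forget U.left ⋙ CategoryTheory.Over.forget U.left).map_injective
    (congrArg (fun t => t.left.left) h :)

instance : (overProEt U).Full where
  map_surjective {V W} g :=
    ⟨MorphismProperty.Over.homMk g.left.left (congrArg (fun t => t.left) (Over.w g)),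
      Over.OverMorphism.ext ((Scheme.ProEt.forget X ⋙ CategoryTheory.Over.forget X).map_injective rfl)⟩

instance : (overProEt U).EssSurj where
  mem_essImage A := by
    have h : A.hom.left ≫ U.hom = A.left.hom := MorphismProperty.Over.w A.hom
    haveI : WeaklyEtale A.hom.left := ProEtWC.weaklyEtale_left A.hom
    refine ⟨Scheme.ProEt.mk A.hom.left, ⟨Over.isoMk
      (MorphismProperty.Over.isoMk (Iso.refl _) ((Category.id_comp _).trans h.symm)) ?_⟩⟩
    exact (Scheme.ProEt.forget X ⋙ CategoryTheory.Over.forget X).map_injective (Category.id_comp _)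

instance : (overProEt U).IsEquivalence where

instance isDenseSubsite_overProEt :
    (overProEt U).IsDenseSubsite (Scheme.ProEt.topology U.left) ((Scheme.ProEt.topology X).over U) where
  functorPushforward_mem_iff {V S} := by
    rw [GrothendieckTopology.mem_over_iff]
    have e : Sieve.overEquiv _ (S.functorPushforward (overProEt U)) =
        S.functorPushforward (ProEtS.compP (sHom U)) := by
      ext W g
      rw [Sieve.overEquiv_iff]
      constructor
      · rintro ⟨V', g', h, hg', hh⟩
        exact ⟨V', g', h.left, hg', congrArg (fun t => t.left) hh⟩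
      · rintro ⟨V', g', h, hg', hh⟩
        refine ⟨V', g', Over.homMk h ?_, hg', Over.OverMorphism.ext hh⟩
        refine (Scheme.ProEt.forget X ⋙ CategoryTheory.Over.forget X).map_injective ?_
        subst hh
        exact (congrArg (fun t => h.left ≫ t) (MorphismProperty.Over.w g')).symm.trans
          (Category.assoc _ _ _).symm
    rw [e, ProEtWC.mem_topology_iff_pushforward, ProEtWC.mem_topology_iff_pushforward,
      ← Sieve.functorPushforward_comp]
    rfl

variable (Λ : Type (u + 1)) [CommRing Λ]

/-- Sheaves on the localised site are sheaves on the small pro-étale site. -/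
noncomputable abbrev overRestrP :
    Sheaf ((Scheme.ProEt.topology X).over U) (ModuleCat.{u + 1} Λ) ⥤ EtModW.ModP Λ U.left :=
  (overProEt U).sheafPushforwardContinuous (ModuleCat.{u + 1} Λ) (Scheme.ProEt.topology U.left)
    ((Scheme.ProEt.topology X).over U)

instance : (overRestrP U Λ).IsEquivalence :=
  (Functor.IsDenseSubsite.sheafEquiv (Scheme.ProEt.topology U.left) ((Scheme.ProEt.topology X).over U)
    (overProEt U) (ModuleCat.{u + 1} Λ)).isEquivalence_inverse

/-- Constant sheaves on either site. -/
noncomputable def overConstPIso :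
    constantSheaf ((Scheme.ProEt.topology X).over U) (ModuleCat.{u + 1} Λ) ⋙ overRestrP U Λ ≅
      cstP (Λ := Λ) (X := U.left) :=
  (equivCommuteConstant' (Scheme.ProEt.topology U.left) (ModuleCat.{u + 1} Λ)
    ((Scheme.ProEt.topology X).over U) (overProEt U) (isTerminalTopP (X := U.left))
    ((isTerminalTopP (X := U.left)).isTerminalObj (overProEt U))).symm

/-- Restriction on either site. -/
noncomputable def overPullPIso :
    (Scheme.ProEt.topology X).overPullback (ModuleCat.{u + 1} Λ) U ⋙ overRestrP U Λ ≅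
      pullPMod (Λ := Λ) (sHom U) :=
  haveI := Functor.isContinuous_comp (overProEt U) (Over.forget U) (Scheme.ProEt.topology U.left)
    ((Scheme.ProEt.topology X).over U) (Scheme.ProEt.topology X)
  Functor.sheafPushforwardContinuousComp (overProEt U) (Over.forget U) (ModuleCat.{u + 1} Λ)
      (Scheme.ProEt.topology U.left) ((Scheme.ProEt.topology X).over U) (Scheme.ProEt.topology X) ≪≫
    (pullRestrPIso Λ (sHom U)).symm

/-- Constancy on either site. -/
theorem nonempty_over_iso_const_iff (G : EtModW.ModP Λ X) (M : ModuleCat.{u + 1} Λ) :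
    Nonempty (G.over U ≅ (constantSheaf ((Scheme.ProEt.topology X).over U) (ModuleCat.{u + 1} Λ)).obj M) ↔
      Nonempty ((pullPMod (Λ := Λ) (sHom U)).obj G ≅ (cstP (X := U.left)).obj M) := by
  let a : (overRestrP U Λ).obj (G.over U) ≅ (pullPMod (Λ := Λ) (sHom U)).obj G := (overPullPIso U Λ).app G
  let b := (overConstPIso U Λ).app M
  exact ⟨fun ⟨i⟩ => ⟨a.symm ≪≫ (overRestrP U Λ).mapIso i ≪≫ b⟩,
    fun ⟨i⟩ => ⟨(overRestrP U Λ).preimageIso (a ≪≫ i ≪≫ b.symm)⟩⟩

end OverSite

section Const

variable (Λ : Type (u + 1)) [CommRing Λ] [ProEtS.EpsCont X]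

/-- `ε⁻¹` of constant sheaves are constant sheaves. -/
noncomputable def cstEpsIso :
    constantSheaf X.smallEtaleTopology (ModuleCat.{u + 1} Λ) ⋙ EtModW.epsPullMod Λ X ≅ cstP (Λ := Λ) (X := X) :=
  Adjunction.leftAdjointUniq
    (((constantSheafAdj X.smallEtaleTopology (ModuleCat.{u + 1} Λ) (EtCore.topIsTerminal X)).comp
      (epsAdjMod (X := X) Λ)).ofNatIsoRight (NatIso.ofComponents
        (fun F => F.obj.mapIso (MorphismProperty.Over.isoMk (Iso.refl _) :
          ProEtS.topP X ≅ (ProEtS.eps X).obj (EtCoh.top X)).op)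
        (fun {F G} φ => (φ.hom.naturality _).symm) :
          pushMod ⋙ (sheafSections X.smallEtaleTopology (ModuleCat.{u + 1} Λ)).obj (op (EtCoh.top X)) ≅
            secP (Λ := Λ) (ProEtS.topP X)))
    (cstAdj (Λ := Λ) (X := X))

/-- Inverse images along equal morphisms. -/
noncomputable def pullPCongr {Y : Scheme.{u}} {f g : Y ⟶ X} (h : f = g) [ProEtS.PCont f] [ProEtS.PCont g] :
    pullPMod (Λ := Λ) f ≅ pullPMod g :=
  eqToIso (by subst h; rfl)

/-- Inverse images of constant sheaves. -/
noncomputable def pullCstPIso {Y : Scheme.{u}} (f : Y ⟶ X) [ProEtS.EpsCont Y] [ProEtS.PCont f] :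
    cstP (Λ := Λ) (X := X) ⋙ pullPMod f ≅ cstP (Λ := Λ) (X := Y) :=
  Functor.isoWhiskerRight (cstEpsIso (X := X) Λ).symm _ ≪≫ Functor.associator _ _ _ ≪≫
    Functor.isoWhiskerLeft _ (pullEpsIso f).symm ≪≫ (Functor.associator _ _ _).symm ≪≫
    Functor.isoWhiskerRight (modPullConstIso Λ f) _ ≪≫ cstEpsIso (X := Y) Λ

end Const

end Groth.Agent.Et18.ModP
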