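import Groth.Agent.Et18.ModEps.EpsBC
import Groth.Agent.Et18.ModEps.AdicEquiv
import Groth.Agent.ProEtWC.Closed
import Groth.Agent.ProEtWC.LiftHom
import Groth.Agent.EtCmp.PushCompare

/-!
# Direct images of adic pro-étale sheaves along closed immersions
-/

universe u

open CategoryTheory CategoryTheory.Limits AlgebraicGeometry Opposite ARSys

set_option backward.isDefEq.respectTransparency.types false
set_option backward.isDefEq.respectTransparency false
set_option synthInstance.maxHeartbeats 400000
set_option maxHeartbeats 1000000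

namespace Groth.Agent.Et18.ModP

open ModEps

variable {Λ : Type (u + 1)} [CommRing Λ] {X : Scheme.{u}}

/-- Over affine weakly contractible objects, a quotient map by any ideal kills only the submodule of the
ideal. -/
theorem ker_le_of_isQuot {I : Ideal Λ} {F Q : EtModW.ModP Λ X} {p : F ⟶ Q} (hp : IsQuot I p)
    {U : X.ProEt} (hU : IsAWC U) (x : (secP (Λ := Λ) U).obj F) (hx : ((secP U).map p).hom x = 0) :
    x ∈ I • (⊤ : Submodule Λ ((secP (Λ := Λ) U).obj F)) := by
  classical
  let J := Scheme.ProEt.topology X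
  let P : X.ProEtᵒᵖ ⥤ ModuleCat.{u + 1} Λ :=
    { obj := fun V => ModuleCat.of Λ (F.obj.obj V ⧸ (I • ⊤ : Submodule Λ (F.obj.obj V)))
      map := fun {V W} f => ModuleCat.ofHom (Submodule.mapQ _ _ (F.obj.map f).hom
        (Submodule.smul_le.mpr fun a ha y _ => by
          rw [Submodule.mem_comap, map_smul]
          exact Submodule.smul_mem_smul ha trivial))
      map_id := fun V => by
        refine ModuleCat.hom_ext (Submodule.linearMap_qext _ (LinearMap.ext fun y => ?_))
        show Submodule.Quotient.mk ((F.obj.map (𝟙 V)).hom y) = Submodule.Quotient.mk y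
        rw [F.obj.map_id]
        rfl
      map_comp := fun f g => by
        refine ModuleCat.hom_ext (Submodule.linearMap_qext _ (LinearMap.ext fun y => ?_))
        show Submodule.Quotient.mk ((F.obj.map (f ≫ g)).hom y) =
          Submodule.Quotient.mk ((F.obj.map g).hom ((F.obj.map f).hom y))
        rw [F.obj.map_comp]
        rfl }
  let π : F.obj ⟶ P :=
    { app := fun V => ModuleCat.ofHom (Submodule.mkQ _)
      naturality := fun V W f => ModuleCat.hom_ext (LinearMap.ext fun y => rfl) }
  let T : EtModW.ModP Λ X := (presheafToSheaf J _).obj P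
  let ψ : F ⟶ T := ⟨π ≫ toSheafify J P⟩
  have hψ : HomKilledBy I ψ := fun a ha => Sheaf.hom_ext (NatTrans.ext (funext fun V =>
    ModuleCat.hom_ext (LinearMap.ext fun y => by
      show a • ((toSheafify J P).app V).hom ((π.app V).hom y) = 0
      rw [← map_smul, ← map_smul, show (π.app V).hom (a • y) = 0 from
        (Submodule.Quotient.mk_eq_zero _).mpr (Submodule.smul_mem_smul ha trivial), map_zero])))
  have h0 : ((secP U).map ψ).hom x = 0 := by
    rw [← ARLib.qdesc_fac hp ψ hψ, secP_comp_apply, hx, map_zero]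
  have h1 : ((toSheafify J P).app (op U)).hom ((π.app (op U)).hom x) =
      ((toSheafify J P).app (op U)).hom 0 := h0.trans (map_zero _).symm
  haveI := hU.1
  obtain ⟨n, W, -, hdisj, hcover, hW⟩ := ProEtWC.clopenRefined_of_wContractible hU.2 _
    (Presheaf.equalizerSieve_mem J (toSheafify J P) ((π.app (op U)).hom x) 0 h1)
  let o : ∀ k, ProEtWC.openObj U (W k) ⟶ U := fun k => ProEtWC.openIncl U (W k)
  haveI : ∀ k, IsOpenImmersion (o k).left := fun k => inferInstanceAs (IsOpenImmersion (W k).ι)
  have hr : ∀ k, Set.range (o k).left = (W k : Set ↥U.left) := fun k => (W k).range_ι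
  have hcov : ∀ y : U.left, ∃ k, y ∈ Set.range (o k).left := fun y => by
    obtain ⟨k, hk⟩ := Set.mem_iUnion.1 (hcover.ge (Set.mem_univ y))
    exact ⟨k, (hr k).ge hk⟩
  let F' := (sheafCompose J (CategoryTheory.forget (ModuleCat.{u + 1} Λ))).obj F
  have hsingle : ∀ k, ∃ z ∈ I • (⊤ : Submodule Λ ((secP (Λ := Λ) U).obj F)),
      ∀ l, (F.obj.map (o l).op).hom z = if l = k then (F.obj.map (o l).op).hom x else 0 := fun k => by
    have hk : (F.obj.map (o k).op).hom x ∈ I • (⊤ : Submodule Λ (F.obj.obj (op (ProEtWC.openObj U (W k))))) := by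
      refine (Submodule.Quotient.mk_eq_zero _).mp ?_
      exact (NatTrans.naturality_apply π (o k).op x).trans ((hW k).trans (map_zero _))
    suffices key : ∀ y ∈ I • (⊤ : Submodule Λ (F.obj.obj (op (ProEtWC.openObj U (W k))))),
        ∃ z ∈ I • (⊤ : Submodule Λ ((secP (Λ := Λ) U).obj F)), (F.obj.map (o k).op).hom z = y ∧
          ∀ l, l ≠ k → (F.obj.map (o l).op).hom z = 0 by
      obtain ⟨z, hz, hz1, hz2⟩ := key _ hk
      refine ⟨z, hz, fun l => ?_⟩
      split_ifs with hlk
      · subst hlk; exact hz1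
      · exact hz2 l hlk
    intro y hy
    refine Submodule.smul_induction_on hy (fun b hb y' _ => ?_) fun p q hp hq => ?_
    · obtain ⟨z, hz⟩ : ∃ z : (secP (Λ := Λ) U).obj F, ∀ l, (F.obj.map (o l).op).hom z =
          (Pi.single k y' : ∀ l, F.obj.obj (op (ProEtWC.openObj U (W l)))) l :=
        ProEtWC.exists_glue _ o hcov (fun k l hkl => by
          show Disjoint (Set.range (o k).left) (Set.range (o l).left)
          rw [hr, hr]; exact hdisj hkl) F' _
      refine ⟨b • z, Submodule.smul_mem_smul hb trivial, ?_, fun l hl => ?_⟩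
      · rw [map_smul, hz, Pi.single_eq_same]
      · rw [map_smul, hz, Pi.single_eq_of_ne hl, smul_zero]
    · obtain ⟨z, hz, hz1, hz2⟩ := hp
      obtain ⟨z', hz', hz1', hz2'⟩ := hq
      exact ⟨z + z', add_mem hz hz', by rw [map_add, hz1, hz1'],
        fun l hl => by rw [map_add, hz2 l hl, hz2' l hl, add_zero]⟩
  choose z hzI hz using hsingle
  have hxz : x = ∑ k, z k := by
    refine (ProEtWC.isSheafFor_disjoint _ o hcov F').isSeparatedFor.ext ?_
    rintro _ _ ⟨l⟩
    show (F.obj.map (o l).op).hom x = (F.obj.map (o l).op).hom (∑ k, z k)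
    rw [map_sum]
    simp only [hz, Finset.sum_ite_eq, Finset.mem_univ, if_true]
  rw [hxz]
  exact Submodule.sum_mem _ fun k _ => hzI k

section Push

variable {Z : Scheme.{u}} (i : Z ⟶ X) [IsClosedImmersion i] [ProEtS.PCont i]
  (hret : IsRetrocompact (Set.range i.base)ᶜ)

include hret in
omit [ProEtS.PCont i] in
theorem isAWC_bcP {V : X.ProEt} (hV : IsAWC V) : IsAWC ((ProEtS.bcP i).obj V) := by
  haveI := hV.1
  haveI := ProEtWC.isAffine_bc i V
  exact ⟨inferInstance,
    ProEtWC.wContractible_of_isWC (ProEtWC.isWC_bcP_of_closedImmersion i hret V hV.1 hV.2)⟩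

include hret in
theorem epi_pushPMod {F G : EtModW.ModP Λ Z} (p : F ⟶ G) [Epi p] : Epi ((pushPMod (Λ := Λ) i).map p) :=
  epi_of_awc _ fun _ hV => surjective_of_epi p (isAWC_bcP i hret hV)

include hret in
/-- Direct images along closed immersions keep quotient maps. -/
theorem isQuot_pushPMod {I : Ideal Λ} {F Q : EtModW.ModP Λ Z} {p : F ⟶ Q} (hp : IsQuot I p) :
    IsQuot I ((pushPMod (Λ := Λ) i).map p) := by
  haveI := ARLib.isQuot_epi hp
  haveI := epi_pushPMod (Λ := Λ) i hret p
  refine ARLib.isQuot_of_epi (fun a ha => ?_) fun Y φ hφ => ?_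
  · exact (show a • (pushPMod (Λ := Λ) i).map (𝟙 Q) = (pushPMod (Λ := Λ) i).map (a • 𝟙 Q) from rfl).trans
      (by rw [hp.1 a ha]; rfl)
  · refine hom_ext_awc fun V hV t => ?_
    let s := ((secP V).map (kernel.ι ((pushPMod (Λ := Λ) i).map p))).hom t
    have hs : ((secP ((ProEtS.bcP i).obj V)).map p).hom s = 0 :=
      congrArg (fun k => ((secP V).map k).hom t) (kernel.condition ((pushPMod (Λ := Λ) i).map p))
    have hmem : s ∈ I • (⊤ : Submodule Λ ((secP (Λ := Λ) V).obj ((pushPMod (Λ := Λ) i).obj F))) :=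
      ker_le_of_isQuot hp (isAWC_bcP i hret hV) s hs
    show ((secP V).map φ).hom s = 0
    refine Submodule.smul_induction_on hmem (fun b hb y _ => ?_) fun y y' hy hy' => ?_
    · rw [map_smul]
      exact congrArg (fun k => ((secP V).map k).hom y) (hφ b hb)
    · rw [map_add, hy, hy', add_zero]

variable [ProEtS.EpsCont X] [ProEtS.EpsCont Z]

variable (Λ) in
/-- The comparison `ε⁻¹ i_* ⟶ i_* ε⁻¹`. -/
noncomputable def betaMod (E : EtModW.Mod Λ Z) :
    (EtModW.epsPullMod Λ X).obj ((EtModW.push Λ i).obj E) ⟶ (pushPMod i).obj ((EtModW.epsPullMod Λ Z).obj E) :=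
  ((epsAdjMod (X := X) Λ).homEquiv _ _).symm
    ((EtModW.push Λ i).map ((epsAdjMod (X := Z) Λ).unit.app E) ≫ (pushModComm i).hom.app _)

theorem isIso_betaMod (E : EtModW.Mod Λ Z) : IsIso (betaMod Λ i E) := by
  let G := (EtModD.forgetToAb Λ Z).obj E
  haveI : IsIso ((EtCmp.phi i).app G) := EtCmp.isIso_phi i G
  haveI : IsIso ((forgetP Λ).map (betaMod Λ i E)) := by
    have key : (pullForget (X := X) Λ).app ((EtModW.push Λ i).obj E) ≫ (forgetP Λ).map (betaMod Λ i E) =
        (EtCmp.phi i).app G ≫ (ProEtS.pushP i).map ((pullForget (X := Z) Λ).app E) := by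
      apply ((ProEtS.epsAdj X).homEquiv _ _).injective
      refine ((ProEtS.epsAdj X).homEquiv_naturality_right _ _).trans ?_
      refine Eq.trans ?_ ((ProEtS.epsAdj X).homEquiv_naturality_right _ _).symm
      have h1 : (EtModD.forgetToAb Λ X).map ((epsAdjMod (X := X) Λ).unit.app ((EtModW.push Λ i).obj E)) ≫
          (EtModD.forgetToAb Λ X).map ((pushMod (Λ := Λ)).map (betaMod Λ i E)) =
          (EtModD.forgetToAb Λ X).map
            ((EtModW.push Λ i).map ((epsAdjMod (X := Z) Λ).unit.app E) ≫ (pushModComm i).hom.app _) := by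
        rw [← Functor.map_comp]
        refine congrArg (EtModD.forgetToAb Λ X).map ?_
        exact ((epsAdjMod (X := X) Λ).homEquiv_unit _ _ _).symm.trans (Equiv.apply_symm_apply _ _)
      refine (congrArg (fun k => k ≫ (ProEtS.epsPush X).map ((forgetP Λ).map (betaMod Λ i E)))
        (Equiv.apply_symm_apply _ _)).trans ?_
      refine Eq.trans ?_ (congrArg (fun k => k ≫ (ProEtS.epsPush X).map ((ProEtS.pushP i).map
        ((pullForget (X := Z) Λ).app E))) (Equiv.apply_symm_apply _ _)).symm
      refine h1.trans ?_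
      refine Sheaf.hom_ext (NatTrans.ext (funext fun V => ?_))
      refine ConcreteCategory.hom_ext _ _ fun x => ?_
      have h2 := congrArg (fun k => k.hom.app (op ((EtCoh.bc i).obj V.unop)) x) (unit_pullForget (X := Z) E)
      refine Eq.trans ?_ h2.symm
      show (((EtModW.epsPullMod Λ Z).obj E).obj.map _).hom _ = _
      rw [show (NatIso.op (epsBcIso i)).hom.app V = 𝟙 _ from rfl]
      erw [CategoryTheory.Functor.map_id]
      rfl
    haveI : IsIso ((pullForget (X := X) Λ).app ((EtModW.push Λ i).obj E) ≫ (forgetP Λ).map (betaMod Λ i E)) := by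
      rw [key]; infer_instance
    exact IsIso.of_isIso_comp_left ((pullForget (X := X) Λ).app ((EtModW.push Λ i).obj E)) _
  exact isIso_of_reflects_iso _ (forgetP (X := X) Λ)

include hret in
/-- **Direct images along closed immersions of adic sheaves are adic.** -/
theorem isAdicP_push {I : Ideal Λ}
    (hpush : ∀ E : EtModW.Mod Λ Z, EtModW.IsConstructible Λ E →
      EtModW.IsConstructible Λ ((EtModW.push Λ i).obj E))
    (F : EtModW.ModP Λ Z) (hF : IsAdicP I F) : IsAdicP I ((pushPMod i).obj F) := by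
  obtain ⟨Q, p, hQ, hc, hl⟩ := hF
  let P := pushPMod (Λ := Λ) i
  let p' : (Functor.const ℕᵒᵖ).obj (P.obj F) ⟶ Q ⋙ P :=
    { app := fun n => P.map (p.app n)
      naturality := fun n m f => by
        refine (Category.id_comp _).trans ?_
        refine (congrArg P.map ((Category.id_comp _).symm.trans (p.naturality f))).trans ?_
        exact P.map_comp _ _ }
  refine ⟨Q ⋙ P, p', fun n => isQuot_pushPMod i hret (hQ n), fun n => ?_, ?_⟩
  · obtain ⟨E, hE, ⟨e⟩⟩ := hc n
    haveI := isIso_betaMod (Λ := Λ) i E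
    exact ⟨_, hpush E hE, ⟨asIso (betaMod Λ i E) ≪≫ P.mapIso e⟩⟩
  · haveI := hl
    haveI : PreservesLimitsOfShape ℕᵒᵖ P := by
      haveI : PreservesLimitsOfSize.{0, 0} P := (pullPModAdj (Λ := Λ) i).rightAdjoint_preservesLimits
      infer_instance
    have hc' : IsLimit (Cone.mk F p) :=
      (limit.isLimit Q).ofIsoLimit (Cone.ext (asIso (limit.lift Q (Cone.mk F p))) fun n =>
        (limit.lift_π (Cone.mk F p) n).symm).symm
    let h := isLimitOfPreserves P hc'
    have : limit.lift (Q ⋙ P) (Cone.mk (P.obj F) p') = (h.conePointUniqueUpToIso (limit.isLimit _)).hom :=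
      limit.hom_ext fun n => by
        rw [limit.lift_π]
        exact (h.conePointUniqueUpToIso_hom_comp (limit.isLimit _) n).symm
    rw [this]
    infer_instance

end Push

end Groth.Agent.Et18.ModP
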