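import Groth.Agent.Et18.ModP.Classical
import Groth.Agent.Et18.Mod.Immersion

/-!
# Constructible pro-étale sheaves via strata
-/

universe u

open CategoryTheory CategoryTheory.Limits AlgebraicGeometry Opposite

set_option backward.isDefEq.respectTransparency.types false
set_option backward.isDefEq.respectTransparency false
set_option synthInstance.maxHeartbeats 400000
set_option maxHeartbeats 1000000

namespace Groth.Agent.Et18.ModP

open ModEps

/-- A constructible subset is saturated for the partition by finitely many quasi-compact opens. -/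
theorem exists_opens_saturating {X : Scheme.{u}} [CompactSpace X] {s : Set X}
    (hs : Topology.IsConstructible s) :
    ∃ t : Finset X.Opens, (∀ O ∈ t, IsCompact (O : Set X)) ∧
      ∀ x y, (∀ O ∈ t, x ∈ O ↔ y ∈ O) → (x ∈ s ↔ y ∈ s) := by
  classical
  induction hs using Topology.IsConstructible.empty_union_induction with
  | open_retrocompact U hUo hUc =>
    refine ⟨{⟨U, hUo⟩}, fun O hO => ?_, fun x y h => h ⟨U, hUo⟩ (Finset.mem_singleton_self _)⟩
    rw [Finset.mem_singleton] at hO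
    subst hO
    simpa using hUc isCompact_univ isOpen_univ
  | union s hs t ht hs' ht' =>
    obtain ⟨A, hA, hA'⟩ := hs'
    obtain ⟨B, hB, hB'⟩ := ht'
    refine ⟨A ∪ B, fun O hO => (Finset.mem_union.mp hO).elim (hA O) (hB O), fun x y h => ?_⟩
    simp only [Set.mem_union, hA' x y fun O hO => h O (Finset.mem_union_left _ hO),
      hB' x y fun O hO => h O (Finset.mem_union_right _ hO)]
  | compl s hs hs' =>
    obtain ⟨A, hA, hA'⟩ := hs'
    exact ⟨A, hA, fun x y h => not_congr (hA' x y h)⟩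

variable {Λ : Type (u + 1)} [CommRing Λ] {X : Scheme.{u}}

/-- Classical on a stratification of an affine open implies classical on it. -/
theorem cl_restrict [∀ (T : Scheme.{u}) (g : T ⟶ X), ProEtS.PCont g] (F : EtModW.ModP Λ X)
    (U : X.Opens) (hU : IsAffineOpen U) {m : ℕ} (T : Fin m → Scheme.{u}) (g : ∀ i, T i ⟶ X)
    (hg : ∀ i, IsImmersion (g i))
    (hc : ∀ i, Topology.IsConstructible ((Subtype.val : ↥(U : Set X) → X) ⁻¹' Set.range (g i)))
    (hu : (⋃ i, Set.range (g i)) = (U : Set X))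
    (hF : ∀ i, Cl ((pullPMod (Λ := Λ) (g i)).obj F)) : Cl ((pullPMod (Λ := Λ) U.ι).obj F) := by
  classical
  haveI : IsAffine U.toScheme := hU
  choose t ht ht' using fun i => exists_opens_saturating (X := U.toScheme) (hc i)
  let all := Finset.univ.biUnion t
  refine cl_of_atoms all.card U.toScheme _ (fun k => (all.equivFin.symm k).1) (fun k => ?_) fun T' h _ hT hh hk => ?_
  · obtain ⟨i, -, hi⟩ := Finset.mem_biUnion.mp (all.equivFin.symm k).2
    exact ht i _ hi
  haveI := hT
  haveI := hh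
  haveI := EtCmp.epsCont T'
  haveI : ProEtS.PCont (h ≫ U.ι) := inferInstance
  refine Cl.of_iso ((pullPComp (Λ := Λ) h U.ι).app F) ?_
  rcases isEmpty_or_nonempty ↥T' with he | ⟨⟨t₀⟩⟩
  · have hz : ∀ G : EtModW.ModP Λ T', IsZero G := fun G =>
      (IsZero.iff_id_eq_zero G).mpr (hom_ext_awc fun V _ x => by
        haveI : IsEmpty ↥V.left := ⟨fun v => isEmptyElim (show ↥T' from V.hom v)⟩
        exact ProEtWC.subsingleton_of_isEmpty
          ((sheafCompose _ (CategoryTheory.forget (ModuleCat.{u + 1} Λ))).obj G) V _ _)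
    exact ⟨pushMod.obj ((pullPMod (Λ := Λ) (h ≫ U.ι)).obj F), ⟨(hz _).iso (hz _)⟩⟩
  obtain ⟨i, hi⟩ := Set.mem_iUnion.mp (hu.ge (h t₀).2 : (h t₀).1 ∈ ⋃ i, Set.range (g i))
  have hsub : Set.range (h ≫ U.ι) ⊆ Set.range (g i) := by
    rintro _ ⟨y, rfl⟩
    have hmem : h y ∈ (Subtype.val : ↥(U : Set X) → X) ⁻¹' Set.range (g i) := by
      refine (ht' i (h t₀) (h y) fun O hO => ?_).mp hi
      have hO' : O ∈ all := Finset.mem_biUnion.mpr ⟨i, Finset.mem_univ _, hO⟩
      rcases hk (all.equivFin ⟨O, hO'⟩) with h' | h' <;> simp only [Equiv.symm_apply_apply] at h'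
      · exact iff_of_true (h' ⟨_, rfl⟩) (h' ⟨_, rfl⟩)
      · exact iff_of_false (Set.disjoint_left.mp h' ⟨_, rfl⟩) (Set.disjoint_left.mp h' ⟨_, rfl⟩)
    exact hmem
  haveI := hg i
  let p := pullback.fst (h ≫ U.ι) (g i)
  haveI : Surjective p := ⟨fun y => by
    have hy : y ∈ Set.range p := by
      rw [Scheme.Pullback.range_fst]
      exact hsub ⟨y, rfl⟩
    exact hy⟩
  haveI : IsClosedImmersion p :=
    IsClosedImmersion.of_isPreimmersion p (by rw [p.surjective.range_eq]; exact isClosed_univ)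
  haveI : IsIso p := isIso_of_isClosedImmersion_of_surjective p
  let k : T' ⟶ T i := inv p ≫ pullback.snd _ _
  have hk' : k ≫ g i = h ≫ U.ι := by
    rw [Category.assoc, ← pullback.condition, IsIso.inv_hom_id_assoc]
  haveI := ProEtWC.pCont k
  haveI : ProEtS.PCont (k ≫ g i) := inferInstance
  refine Cl.of_iso (((pullPComp (Λ := Λ) k (g i)).app F).symm ≪≫ eqToIso ?_) (Cl.pull k (hF i))
  simp only [hk']

variable [ProEtS.EpsCont X]

/-- A sheaf classical on every affine open is classical. -/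
theorem isIso_counit_of_affine (F : EtModW.ModP Λ X)
    (h : ∀ U : X.Opens, IsAffineOpen U → haveI := ProEtWC.pCont U.ι; Cl ((pullPMod (Λ := Λ) U.ι).obj F)) :
    IsIso ((epsAdjMod (X := X) Λ).counit.app F) := by
  let c := (epsAdjMod (X := X) Λ).counit.app F
  refine isIso_of_awc c fun V hV => ?_
  have key : ∀ U : X.Opens, IsAffineOpen U → ∀ W : X.ProEt, Set.range W.hom ⊆ (U : Set X) →
      Function.Bijective ((secP (Λ := Λ) W).map c).hom := by
    intro U hU W hW
    haveI := ProEtWC.pCont U.ι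
    haveI := jpCont U.ι
    haveI := EtCmp.epsCont U.toScheme
    let R := restrPMod (Λ := Λ) U.ι
    haveI : IsIso (R.map c) := by
      have hB : Cl (R.obj F) := Cl.of_iso ((pullRestrPIso Λ U.ι).app F) (h U hU)
      have hA : Cl (R.obj ((pushMod ⋙ EtModW.epsPullMod Λ X).obj F)) :=
        Cl.of_iso ((pullRestrPIso Λ U.ι).app _) (Cl.pull U.ι ⟨_, ⟨Iso.refl _⟩⟩)
      haveI : IsIso ((epsAdjMod (X := U.toScheme) Λ).counit.app (R.obj F)) := by
        obtain ⟨B, ⟨e⟩⟩ := hB
        exact (epsAdjMod (X := U.toScheme) Λ).isIso_counit_app_of_iso e.symm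
      haveI : IsIso ((epsAdjMod (X := U.toScheme) Λ).counit.app
          (R.obj ((pushMod ⋙ EtModW.epsPullMod Λ X).obj F))) := by
        obtain ⟨A, ⟨e⟩⟩ := hA
        exact (epsAdjMod (X := U.toScheme) Λ).isIso_counit_app_of_iso e.symm
      haveI : IsIso ((pushMod (Λ := Λ)).map c) := by
        have := (epsAdjMod (X := X) Λ).right_triangle_components F
        exact IsIso.of_isIso_fac_left this
      haveI : IsIso ((pushMod (Λ := Λ)).map (R.map c)) := by
        refine (isIso_iff_of_reflects_iso _ (sheafToPresheaf _ _)).mp ?_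
        refine (NatTrans.isIso_iff_isIso_app _).mpr fun W' => ?_
        haveI : IsIso ((pushMod (Λ := Λ)).map c).hom :=
          inferInstanceAs (IsIso ((sheafToPresheaf _ _).map ((pushMod (Λ := Λ)).map c)))
        let W'' : X.Etale := Scheme.Etale.mk (W'.unop.hom ≫ U.ι)
        exact inferInstanceAs (IsIso (((pushMod (Λ := Λ)).map c).hom.app (op W'')))
      have nat := (epsAdjMod (X := U.toScheme) Λ).counit.naturality (R.map c)
      haveI : IsIso ((pushMod ⋙ EtModW.epsPullMod Λ U.toScheme).map (R.map c)) :=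
        inferInstanceAs (IsIso ((EtModW.epsPullMod Λ U.toScheme).map ((pushMod (Λ := Λ)).map (R.map c))))
      haveI : IsIso ((epsAdjMod (X := U.toScheme) Λ).counit.app (R.obj ((𝟭 (EtModW.ModP Λ X)).obj F))) :=
        ‹IsIso ((epsAdjMod (X := U.toScheme) Λ).counit.app (R.obj F))›
      exact @IsIso.of_isIso_fac_left _ _ _ _ _ _ _ _ inferInstance
        (IsIso.comp_isIso' inferInstance inferInstance) nat.symm
    have hsub : Set.range W.hom ⊆ Set.range U.ι := by rwa [Scheme.Opens.range_ι]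
    let a := IsOpenImmersion.lift U.ι W.hom hsub
    have ha : a ≫ U.ι = W.hom := IsOpenImmersion.lift_fac _ _ _
    haveI : WeaklyEtale a := MorphismProperty.of_postcomp (W := @WeaklyEtale) (W' := @WeaklyEtale) a U.ι
      (inferInstanceAs (WeaklyEtale U.ι)) (by show WeaklyEtale (a ≫ U.ι); rw [ha]; exact W.prop)
    let A : U.toScheme.ProEt := Scheme.ProEt.mk a
    let e : (ProEtS.compP U.ι).obj A ≅ W := MorphismProperty.Over.isoMk (Iso.refl _) (by
      show 𝟙 _ ≫ W.hom = a ≫ U.ι
      rw [Category.id_comp, ha])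
    have hA := ((sheafToPresheaf _ _).mapIso (asIso (R.map c))).app (op A) |>.isIso_hom
    have hA' : IsIso (c.hom.app (op ((ProEtS.compP U.ι).obj A))) := hA
    have hW' : IsIso (c.hom.app (op W)) := by
      haveI := hA'
      haveI : IsIso (F.obj.map e.hom.op) := (F.obj.mapIso e.op).isIso_hom
      haveI : IsIso ((((pushMod ⋙ EtModW.epsPullMod Λ X).obj F)).obj.map e.hom.op) :=
        ((((pushMod ⋙ EtModW.epsPullMod Λ X).obj F)).obj.mapIso e.op).isIso_hom
      haveI : IsIso (((𝟭 (EtModW.ModP Λ X)).obj F).obj.map e.hom.op) := ‹IsIso (F.obj.map e.hom.op)›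
      exact IsIso.of_isIso_fac_right (c.hom.naturality e.hom.op).symm
    exact (ConcreteCategory.isIso_iff_bijective _).mp hW'
  haveI := hV.1
  have hloc : ∀ v : V.left, ∃ (U : X.Opens) (O : V.left.Opens),
      IsAffineOpen U ∧ v ∈ O ∧ O ≤ V.hom ⁻¹ᵁ U := fun v => by
    obtain ⟨_, ⟨U, hU, rfl⟩, hvU, -⟩ := X.isBasis_affineOpens.exists_subset_of_mem_open
      (Set.mem_univ (V.hom v)) isOpen_univ
    exact ⟨U, V.hom ⁻¹ᵁ U, hU, hvU, le_rfl⟩
  choose U O hU hvO hO using hloc
  let o : ∀ v, ProEtWC.openObj V (O v) ⟶ V := fun v => ProEtWC.openIncl V (O v)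
  haveI : ∀ v, IsOpenImmersion (o v).left := fun v => inferInstanceAs (IsOpenImmersion (O v).ι)
  have hR := Precoverage.generate_mem_toGrothendieck (ProEtWC.ofArrows_mem_precoverage
    (fun v => ProEtWC.openObj V (O v)) o fun v => ⟨v, by rw [show Set.range (o v).left = (O v : Set ↥V.left) from (O v).range_ι]; exact hvO v⟩)
  have hsep : ∀ (G : EtModW.ModP Λ X) (x y : (secP (Λ := Λ) V).obj G),
      (∀ (Z : X.ProEt) (b : Z ⟶ V) (v : ↥V.left), Set.range Z.hom ⊆ (U v : Set X) →
        G.obj.map b.op x = G.obj.map b.op y) → x = y := by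
    intro G x y hxy
    refine ((isSheaf_iff_isSheaf_of_type _ _).1
      ((sheafCompose (Scheme.ProEt.topology X) (CategoryTheory.forget (ModuleCat.{u + 1} Λ))).obj G).property).isSeparated
        _ hR |>.ext ?_
    rintro Z b ⟨_, d, _, ⟨v⟩, rfl⟩
    refine hxy Z (d ≫ o v) v ?_
    rw [show Z.hom = d.left ≫ (O v).ι ≫ V.hom from (CategoryTheory.Over.w d.hom).symm]
    rintro _ ⟨z, rfl⟩
    exact hO v (d.left z).2
  refine ⟨fun x y hxy => hsep _ x y fun Z b v hZ => (key (U v) (hU v) Z hZ).1 ?_, fun y => ?_⟩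
  · exact (NatTrans.naturality_apply c.hom b.op x).trans
      ((congrArg _ hxy).trans (NatTrans.naturality_apply c.hom b.op y).symm)
  · obtain ⟨S, hS⟩ : ∃ S : Sieve V, S = Sieve.generate (Presieve.ofArrows (fun v => ProEtWC.openObj V (O v)) o) :=
      ⟨_, rfl⟩
    have hb : ∀ (Z : X.ProEt) (b : Z ⟶ V), S b → ∃ v, Set.range Z.hom ⊆ (U v : Set X) := by
      rintro Z b hb
      rw [hS] at hb
      obtain ⟨_, d, _, ⟨v⟩, rfl⟩ := hb
      refine ⟨v, ?_⟩
      rw [show Z.hom = d.left ≫ (O v).ι ≫ V.hom from (CategoryTheory.Over.w d.hom).symm]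
      rintro _ ⟨z, rfl⟩
      exact hO v (d.left z).2
    choose v hv using hb
    let G := (pushMod ⋙ EtModW.epsPullMod Λ X).obj F
    let fam : Presieve.FamilyOfElements (G.obj ⋙ CategoryTheory.forget _) S.arrows :=
      fun Z b hb => Classical.choose ((key (U (v Z b hb)) (hU _) Z (hv Z b hb)).2 (F.obj.map b.op y))
    have hfam : ∀ Z b (hb : S b), ((secP (Λ := Λ) Z).map c).hom (fam b hb) = F.obj.map b.op y := fun Z b hb =>
      Classical.choose_spec ((key (U (v Z b hb)) (hU _) Z (hv Z b hb)).2 (F.obj.map b.op y))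
    have hcompat : fam.Compatible := by
      intro Y₁ Y₂ W g₁ g₂ f₁ f₂ h₁ h₂ e
      refine (key _ (hU _) W (hv W (g₁ ≫ f₁) (S.downward_closed h₁ g₁))).1 ?_
      refine (NatTrans.naturality_apply c.hom g₁.op (fam f₁ h₁)).trans ?_
      refine Eq.trans ?_ (NatTrans.naturality_apply c.hom g₂.op (fam f₂ h₂)).symm
      refine (congrArg (F.obj.map g₁.op) (hfam Y₁ f₁ h₁)).trans
        (Eq.trans ?_ (congrArg (F.obj.map g₂.op) (hfam Y₂ f₂ h₂)).symm)
      erw [← Functor.map_comp_apply, ← Functor.map_comp_apply, ← op_comp, ← op_comp, e]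
    have hsheaf := (isSheaf_iff_isSheaf_of_type _ _).1
      ((sheafCompose (Scheme.ProEt.topology X) (CategoryTheory.forget (ModuleCat.{u + 1} Λ))).obj G).property S (hS ▸ hR)
    refine ⟨hsheaf.amalgamate fam hcompat, ?_⟩
    refine ((isSheaf_iff_isSheaf_of_type _ _).1
      ((sheafCompose (Scheme.ProEt.topology X) (CategoryTheory.forget (ModuleCat.{u + 1} Λ))).obj F).property).isSeparated
        _ (hS ▸ hR : S ∈ _) |>.ext fun Z b hb => ?_
    refine (NatTrans.naturality_apply c.hom b.op _).symm.trans ?_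
    refine (congrArg _ (hsheaf.valid_glue hcompat b hb)).trans (hfam Z b hb)

/-- **Constructibility via strata.** -/
theorem isConstrP_iff_strata [IsNoetherianRing Λ] [∀ T : Scheme.{u}, ProEtS.EpsCont T]
    [∀ (T : Scheme.{u}) (g : T ⟶ X), ProEtS.PCont g] (F : EtModW.ModP Λ X) :
    (∃ E : EtModW.Mod Λ X, EtModW.IsConstructible Λ E ∧ Nonempty ((EtModW.epsPullMod Λ X).obj E ≅ F)) ↔
      ∀ U : X.Opens, IsAffineOpen U →
        ∃ (m : ℕ) (T : Fin m → Scheme.{u}) (g : ∀ i, T i ⟶ X),
          (∀ i, IsImmersion (g i)) ∧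
          (∀ i, Topology.IsConstructible ((Subtype.val : ↥(U : Set X) → X) ⁻¹' Set.range (fun t => (g i).base t))) ∧
          Pairwise (fun i j => Disjoint (Set.range (fun t => (g i).base t)) (Set.range (fun t => (g j).base t))) ∧
          (⋃ i, Set.range (fun t => (g i).base t)) = (U : Set X) ∧
          ∀ i, ∃ E : EtModW.Mod Λ (T i), EtModW.IsFTLocConst Λ E ∧
            Nonempty ((EtModW.epsPullMod Λ (T i)).obj E ≅ (pullPMod (g i)).obj F) := by
  constructor
  · rintro ⟨E, hE, ⟨e⟩⟩ U hU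
    obtain ⟨n, T, g, hg, hc, hd, hu, hT⟩ := hE U hU
    exact ⟨n, T, g, hg, hc, hd, hu, fun i => ⟨_, hT i, ⟨(pullEpsIso (g i)).app E ≪≫ (pullPMod (g i)).mapIso e⟩⟩⟩
  · intro h
    have hcl : ∀ U : X.Opens, IsAffineOpen U → haveI := ProEtWC.pCont U.ι; Cl ((pullPMod (Λ := Λ) U.ι).obj F) := by
      intro U hU
      obtain ⟨n, T, g, hg, hc, hd, hu, hT⟩ := h U hU
      refine cl_restrict F U hU T g hg hc hu fun i => ?_
      obtain ⟨E, -, he⟩ := hT i
      exact ⟨E, he⟩
    haveI := isIso_counit_of_affine F hcl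
    let c := asIso ((epsAdjMod (X := X) Λ).counit.app F)
    refine ⟨pushMod.obj F, fun U hU => ?_, ⟨c⟩⟩
    obtain ⟨n, T, g, hg, hc, hd, hu, hT⟩ := h U hU
    refine ⟨n, T, g, hg, hc, hd, hu, fun i => ?_⟩
    obtain ⟨E, hE, ⟨e⟩⟩ := hT i
    exact Mod.isFTLocConst_of_iso hE ((EtModW.epsPullMod Λ (T i)).preimageIso
      (e ≪≫ (pullPMod (g i)).mapIso c.symm ≪≫ ((pullEpsIso (g i)).app _).symm))

end Groth.Agent.Et18.ModP
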